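import Cfsg.Agent.Lib.FusionBasics.Layer
import Cfsg.Agent.Lib.FusionSub.Residual
import Cfsg.Agent.Lib.Alperin.SystemImageComponent
import Cfsg.Agent.S5148

/-!
Components of a system are components of the normal subsystems covering them; a component is
determined by its subgroup.
-/

set_option autoImplicit false
set_option linter.style.haveILetI false
set_option linter.unusedSectionVars false

namespace CfsgLib.FusionFitting

open Cfsg Cfsg.FusionSystem CfsgLib.Alperin CfsgLib.FusionSub CfsgLib.FusionBasics
open CfsgLib.FusionBasics.Meet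

universe u

variable {Ω : Type u} [Group Ω] {S T U : Subgroup Ω} {p : ℕ} [Fact p.Prime]

/-- A subnormal quasisimple system is subnormal in each normal subsystem covering its subgroup. -/
theorem subnormal_descend {C : FusionSystem U} {F : FusionSystem S} (hsub : C.IsSubnormalIn F p) :
    C.Quasisimple p → ∀ [Fact p.Prime] [Finite S], IsPGroup p S → ∀ {T : Subgroup Ω}
      {D : FusionSystem T}, D.IsNormalIn F p → U ≤ T → C.IsSubnormalIn D p := by
  induction hsub with
  | refl F p =>
    intro hq _ _ hS T D hD hUT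
    obtain rfl := le_antisymm hD.1.2.2.2.1.1 hUT
    obtain rfl : D = F :=
      system_eq_of_subsystem hD.1.2.2.1 (Layer.le_of_quasisimple hS hq hD.1)
    exact .refl _ _
  | step hCD hDF ih =>
    intro hq _ _ hS T D hD hUT
    have hVS := hDF.1.2.2.2.1.1
    haveI := finite_of_le hVS
    obtain ⟨M, ⟨-, hM₁, hM₂⟩, -⟩ := exists_meet hS hDF.1.2.1 hDF hD
    exact .step (ih hq (isPGroup_of_le hS hVS) hM₁
      (le_inf (subsystem_le (CoreComponent.subnormal_isSubsystemOf hCD)) hUT)) hM₂

theorem component_descend [Finite S] (hS : IsPGroup p S) {F : FusionSystem S} {C : FusionSystem U}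
    {D : FusionSystem T} (hC : C.IsComponentIn F p) (hD : D.IsNormalIn F p) (hUT : U ≤ T) :
    C.IsComponentIn D p :=
  ⟨subnormal_descend hC.1 hC.2 hS hD hUT, hC.2⟩

theorem subnormal_le {C : FusionSystem U} {F : FusionSystem S} (hsub : C.IsSubnormalIn F p) :
    C.Quasisimple p → ∀ [Fact p.Prime] [Finite S], IsPGroup p S → ∀ {C' : FusionSystem U},
      C'.IsComponentIn F p → C'.IsSubsystemOf C := by
  induction hsub with
  | refl F p => intro _ _ _ _ C' hC'; exact CoreComponent.subnormal_isSubsystemOf hC'.1
  | step hCD hDF ih =>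
    intro hq _ _ hS C' hC'
    have hVS := hDF.1.2.2.2.1.1
    haveI := finite_of_le hVS
    exact ih hq (isPGroup_of_le hS hVS) (component_descend hS hC' hDF
      (subsystem_le (CoreComponent.subnormal_isSubsystemOf hCD)))

/-- A component is determined by its subgroup. -/
theorem component_eq [Finite S] (hS : IsPGroup p S) {F : FusionSystem S} {C C' : FusionSystem U}
    (hC : C.IsComponentIn F p) (hC' : C'.IsComponentIn F p) : C' = C :=
  system_eq_of_subsystem (subnormal_le hC.1 hC.2 hS hC') (subnormal_le hC'.1 hC'.2 hS hC)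

/-- The automorphisms of the subgroup of a component transport its maps. -/
theorem component_transport [Finite S] (hS : IsPGroup p S) {F : FusionSystem S}
    {C : FusionSystem U} (hC : C.IsComponentIn F p) {δ : U →* Ω} (hδ : δ ∈ F.Hom U)
    (hr : δ.range = U) {P : Subgroup Ω} {φ : P →* Ω} (hφ : φ ∈ C.Hom P) :
    ∃ φ' ∈ C.Hom ((P.subgroupOf U).map δ), ∀ (x : U) (hx : (x : Ω) ∈ P)
      (h' : δ x ∈ (P.subgroupOf U).map δ), φ' ⟨δ x, h'⟩ = δ ⟨φ ⟨x, hx⟩, apply_mem hφ _⟩ := by
  have hU : U ≤ S := subsystem_le (CoreComponent.subnormal_isSubsystemOf hC.1)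
  haveI := finite_of_le hU
  obtain ⟨E, hE⟩ := exists_isFactorSystem C (stronglyClosed_bot' C) δ
    (fun s => ⟨fun hs => Subgroup.mem_bot.mpr (congrArg Subtype.val
      ((F.injective_of_mem hδ) (hs.trans (map_one δ).symm))),
      fun hs => by rw [show s = 1 from Subtype.ext (Subgroup.mem_bot.mp hs), map_one]⟩) rfl
  have key : ∀ V : Subgroup Ω, V = U → ∀ E : FusionSystem V, E.IsComponentIn F p →
      SystemIso C E δ → SystemIso C C δ := by
    rintro V rfl E hE h
    exact component_eq hS hC hE ▸ h
  exact iso_fwd (key _ hr E (component_image hC hδ hE) (systemIso_of_factor hE)) hφ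

/-- A component of a quasisimple system covers it. -/
theorem subnormal_quasisimple_top {C : FusionSystem U} {F : FusionSystem S}
    (hsub : C.IsSubnormalIn F p) : C.Quasisimple p → F.Quasisimple p →
      ∀ [Fact p.Prime] [Finite S], IsPGroup p S → U = S := by
  induction hsub with
  | refl F p => intros; rfl
  | step hCD hDF ih =>
    intro hq hqF _ _ hS
    have hVS := hDF.1.2.2.2.1.1
    haveI := finite_of_le hVS
    have hUV := subsystem_le (CoreComponent.subnormal_isSubsystemOf hCD)
    rcases Central.quasisimple_weaklyNormal hS hqF hDF.1 with h | ⟨h, -⟩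
    · haveI := finite_of_le (hUV.trans hVS)
      refine absurd ⟨⟨fun a b => Subtype.ext ?_⟩⟩
        (Cfsg.Agent.S5148.result _ (isPGroup_of_le hS (hUV.trans hVS)) _ hq)
      exact FusionSystem.center_le_centralizer _ (h (hUV b.2)) a (hVS (hUV a.2))
    · have hA := hqF.2.1.ge.trans (Central.hyperfocal_le_of_center_sup hDF.1.2.2.2.1 h)
      obtain rfl := le_antisymm hVS hA
      have e := system_eq_of_subsystem hDF.1.2.2.1 (Layer.le_of_quasisimple hS hqF hDF.1)
      exact ih hq (e ▸ hqF) hS

end CfsgLib.FusionFitting
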