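import Cfsg.Agent.Lib.FusionFitting.Centralizes

/-!
A component lies in a normal subsystem or centralizes it; distinct components commute.
-/

set_option autoImplicit false
set_option linter.style.haveILetI false
set_option linter.unusedSectionVars false

namespace CfsgLib.FusionFitting

open Cfsg Cfsg.FusionSystem CfsgLib.Alperin CfsgLib.Alperin.NormalLift CfsgLib.FusionSub
open CfsgLib.FusionBasics CfsgLib.FusionBasics.Meet

universe u

variable {Ω : Type u} [Group Ω] {S T U : Subgroup Ω} {p : ℕ} [Fact p.Prime]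

/-- The subgroup of fixed elements consists of fixed elements. -/
theorem mem_fixedElts_of_mem_closure [Finite S] (hS : IsPGroup p S) {F : FusionSystem S}
    {E : FusionSystem T} (hE : E.IsNormalIn F p) {y : Ω}
    (hy : y ∈ Subgroup.closure (Central.fixedElts F E)) : y ∈ Central.fixedElts F E := by
  haveI := finite_of_le hE.1.2.2.2.1.1
  refine ⟨((Subgroup.closure_le _).mpr fun z hz => hz.1 :
    Subgroup.closure (Central.fixedElts F E) ≤ centralizerIn S T) hy, fun P φ hφ => ?_⟩
  obtain ⟨ψ, hψ, hx, hz⟩ := Central.fixY_closure_fixedElts hS hE hφ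
  exact ⟨_, restrict_mem hψ (sup_le_sup_left (Subgroup.zpowers_le.mpr hy) P),
    fun x => hx x, fun z => hz ⟨z, Subgroup.zpowers_le.mpr hy z.2⟩⟩

theorem fixedElts_stronglyClosed [Finite S] (hS : IsPGroup p S) {F : FusionSystem S}
    {E : FusionSystem T} (hE : E.IsNormalIn F p) :
    F.StronglyClosed (Subgroup.closure (Central.fixedElts F E)) := by
  haveI := finite_of_le hE.1.2.2.2.1.1
  exact ⟨(Subgroup.closure_le _).mpr fun y hy => hy.1.1, fun R hR φ hφ x => Subgroup.subset_closure
    ((Central.fixedElts_iff hS hE hφ x).mp (mem_fixedElts_of_mem_closure hS hE (hR x.2)))⟩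

/-- All maps of a system. -/
def homs (F : FusionSystem S) : Set (Σ P : Subgroup Ω, (P →* Ω)) := {x | x.2 ∈ F.Hom x.1}

theorem homs_finite [Finite S] (F : FusionSystem S) : (homs F).Finite := by
  haveI : ∀ P : {P : Subgroup Ω // P ≤ S}, Finite ↥(F.Hom P.1) :=
    fun P => Layer.finite_homSet F P.1 P.2
  haveI : Finite {P : Subgroup Ω // P ≤ S} :=
    Finite.of_injective (fun P => P.1.subgroupOf S) fun P Q h => Subtype.ext (by
      have := congrArg (Subgroup.map S.subtype) h
      simpa [Subgroup.map_subgroupOf_eq_of_le, P.2, Q.2] using this)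
  have : Finite ↥(homs F) := Finite.of_surjective
    (fun x : Σ P : {P : Subgroup Ω // P ≤ S}, ↥(F.Hom P.1) =>
      (⟨⟨x.1.1, x.2.1⟩, x.2.2⟩ : homs F))
    fun ⟨⟨P, φ⟩, hφ⟩ => ⟨⟨⟨P, dom_le hφ⟩, ⟨φ, hφ⟩⟩, rfl⟩
  exact Set.toFinite _

/-- A component is the whole quasisimple system or lies in a proper normal subsystem. -/
theorem component_cases {C : FusionSystem U} {F : FusionSystem S} (hsub : C.IsSubnormalIn F p) :
    C.Quasisimple p → ∀ [Fact p.Prime], (U = S ∧ F.Quasisimple p) ∨
      ∃ (T : Subgroup Ω) (D : FusionSystem T), D.IsNormalIn F p ∧ U ≤ T ∧ homs D ⊂ homs F := by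
  induction hsub with
  | refl F p => intro hq _; exact .inl ⟨rfl, hq⟩
  | @step V S C D F p hCD hDF ih =>
    intro hq _
    have hle : homs D ⊆ homs F := fun x hx => hDF.1.2.2.1 x.1 hx
    rcases hle.eq_or_ssubset with heq | hne
    · have hSV : S ≤ V :=
        dom_le (show (⟨S, S.subtype⟩ : Σ P : Subgroup Ω, (P →* Ω)) ∈ homs D from
          heq ▸ (incl_mem F le_rfl : S.subtype ∈ F.Hom S))
      obtain rfl := le_antisymm hDF.1.2.2.2.1.1 hSV
      obtain rfl : D = F := system_ext fun P => Set.ext fun φ =>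
        Set.ext_iff.mp heq (⟨P, φ⟩ : Σ P : Subgroup Ω, (P →* Ω))
      exact ih hq
    · exact .inr ⟨V, D, hDF,
        subsystem_le (CoreComponent.subnormal_isSubsystemOf hCD), hne⟩

/-- Both parts of the dichotomy. -/
def Dich (F : FusionSystem S) (p : ℕ) : Prop :=
  (∀ (U : Subgroup Ω) (C : FusionSystem U), C.IsComponentIn F p →
    ∀ (V : Subgroup Ω) (N : FusionSystem V), N.IsNormalIn F p →
      U ≤ V ∨ (U : Set Ω) ⊆ Central.fixedElts F N) ∧
  ∀ (U : Subgroup Ω) (C : FusionSystem U), C.IsComponentIn F p →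
    ∀ (U' : Subgroup Ω) (C' : FusionSystem U'), C'.IsComponentIn F p →
      U' = U ∨ ∀ a ∈ U, ∀ b ∈ U', a * b = b * a

theorem dich_aux : ∀ (n : ℕ) (S : Subgroup Ω) [Finite S] (F : FusionSystem S),
    IsPGroup p S → (homs F).ncard = n → Dich F p := by
  intro n
  induction n using Nat.strong_induction_on with
  | _ n ih =>
  intro S _ F hS hn
  have down : ∀ (T : Subgroup Ω) (D : FusionSystem T), D.IsNormalIn F p → homs D ⊂ homs F →
      Dich D p := fun T D hD hlt => by
    haveI := finite_of_le hD.1.2.2.2.1.1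
    exact ih _ (hn ▸ Set.ncard_lt_ncard hlt (homs_finite F)) T D
      (isPGroup_of_le hS hD.1.2.2.2.1.1) rfl
  have hA : ∀ (U : Subgroup Ω) (C : FusionSystem U), C.IsComponentIn F p →
      ∀ (V : Subgroup Ω) (N : FusionSystem V), N.IsNormalIn F p →
        U ≤ V ∨ (U : Set Ω) ⊆ Central.fixedElts F N := by
    intro U C hC V N hN
    have hVS := hN.1.2.2.2.1.1
    rcases component_cases hC.1 hC.2 with ⟨rfl, hqF⟩ | ⟨T, D, hD, hUT, hlt⟩
    · rcases Central.quasisimple_weaklyNormal hS hqF hN.1 with h | ⟨h, -⟩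
      · refine .inr fun y hy => ⟨⟨hy, fun v hv => (F.center_le_centralizer (h hv) y hy).symm⟩,
          fun P φ hφ => (FixY.incl ((dom_le hφ).trans hVS) (Subgroup.zpowers_le.mpr hy)).congr
            fun x => Central.center_fix (hN.1.2.2.1 P hφ) x (h (dom_le hφ x.2))⟩
      · exact .inl (hqF.2.1.ge.trans (Central.hyperfocal_le_of_center_sup hN.1.2.2.2.1 h))
    have hTS := hD.1.2.2.2.1.1
    haveI := finite_of_le hTS
    obtain ⟨hA', hB'⟩ := down T D hD hlt
    have hCD := component_descend hS hC hD hUT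
    obtain ⟨M, ⟨-, hM, -⟩, -⟩ := exists_meet hS hD.1.2.1 hD hN
    rcases hA' U C hCD _ M hM with h | h
    · exact .inl (h.trans inf_le_right)
    refine .inr (StepData.le_fixedElts (D := D) ⟨hS, hC, hD, hUT, hN,
      ⟨_, fixedElts_stronglyClosed (isPGroup_of_le hS hTS) hM,
        fun y hy => Subgroup.subset_closure (h hy), fun a ha b hb => ?_⟩, hB' U C hCD⟩)
    exact ((mem_fixedElts_of_mem_closure (isPGroup_of_le hS hTS) hM ha).1.2 b hb).symm
  refine ⟨hA, fun U C hC U' C' hC' => ?_⟩
  rcases component_cases hC.1 hC.2 with ⟨rfl, hqF⟩ | ⟨T, D, hD, hUT, hlt⟩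
  · exact .inl (subnormal_quasisimple_top hC'.1 hC'.2 hqF hS)
  rcases hA U' C' hC' T D hD with h | h
  · exact (down T D hD hlt).2 U C (component_descend hS hC hD hUT) U' C'
      (component_descend hS hC' hD h)
  · exact .inr fun a ha b hb => (h hb).1.2 a (hUT ha)

/-- A component lies under a normal subsystem or is fixed by extensions of all its maps. -/
theorem component_dichotomy [Finite S] (hS : IsPGroup p S) {F : FusionSystem S}
    {C : FusionSystem U} (hC : C.IsComponentIn F p) {V : Subgroup Ω} {N : FusionSystem V}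
    (hN : N.IsNormalIn F p) : U ≤ V ∨ (U : Set Ω) ⊆ Central.fixedElts F N :=
  (dich_aux _ S F hS rfl).1 U C hC V N hN

/-- Components over distinct subgroups commute. -/
theorem components_commute [Finite S] (hS : IsPGroup p S) {F : FusionSystem S}
    {C : FusionSystem U} (hC : C.IsComponentIn F p) {U' : Subgroup Ω} {C' : FusionSystem U'}
    (hC' : C'.IsComponentIn F p) : U' = U ∨ ∀ a ∈ U, ∀ b ∈ U', a * b = b * a :=
  (dich_aux _ S F hS rfl).2 U C hC U' C' hC'

end CfsgLib.FusionFitting
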