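import Cfsg.Agent.Lib.FusionSub.Induction
import Cfsg.Agent.Lib.FusionBasics.Central.Quasisimple
import Cfsg.Agent.Lib.Alperin.PPowerIndex

/-!
An automorphism of order prime to `p` of a quasisimple system which is trivial modulo the centre
is trivial.
-/

set_option autoImplicit false
set_option linter.style.haveILetI false
set_option linter.unusedSectionVars false

namespace CfsgLib.FusionFitting

open Cfsg Cfsg.FusionSystem CfsgLib.Alperin CfsgLib.FusionSub CfsgLib.FusionBasics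

universe u

variable {Ω : Type u} [Group Ω] {U : Subgroup Ω} {p : ℕ} [Fact p.Prime]

/-- The automorphisms of `Q` trivial on `Z` and modulo `Z`. -/
def chainStab (Q Z : Subgroup Ω) : Subgroup (MulAut Q) where
  carrier := {a | ∀ x : Q, (x : Ω)⁻¹ * ((a x : Q) : Ω) ∈ Z ∧ ((x : Ω) ∈ Z → a x = x)}
  one_mem' := fun x => ⟨by simp, fun _ => rfl⟩
  mul_mem' := by
    intro a b ha hb x
    refine ⟨?_, fun hx => ?_⟩
    · have := Z.mul_mem (hb x).1 (ha (b x)).1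
      simpa [mul_assoc] using this
    · rw [MulAut.mul_apply, (hb x).2 hx, (ha x).2 hx]
  inv_mem' := by
    intro a ha x
    have h := ha (a⁻¹ x)
    rw [MulAut.apply_inv_self] at h
    refine ⟨by simpa using Z.inv_mem h.1, fun hx => ?_⟩
    have h2 := (ha x).2 hx
    conv_lhs => rw [← h2]
    exact MulAut.inv_apply_self _ a x

theorem chainStab_pow {Q Z : Subgroup Ω} {a : MulAut Q} (ha : a ∈ chainStab Q Z) (x : Q) (n : ℕ) :
    (a ^ n) x = x * (x⁻¹ * a x) ^ n := by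
  induction n with
  | zero => simp
  | succ n ih =>
    have hfix : a (x⁻¹ * a x) = x⁻¹ * a x := (ha (x⁻¹ * a x)).2 (ha x).1
    rw [pow_succ', MulAut.mul_apply, ih, map_mul, map_pow, hfix, pow_succ' (x⁻¹ * a x), ← mul_assoc x,
      mul_inv_cancel_left]

theorem isPGroup_chainStab {Q Z : Subgroup Ω} (hQ : IsPGroup p Q) [Finite Q] :
    IsPGroup p (chainStab Q Z) := by
  obtain ⟨e, he⟩ := IsPGroup.iff_card.mp hQ
  intro a
  refine ⟨e, Subtype.ext (MulEquiv.ext fun x => ?_)⟩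
  show ((a : MulAut Q) ^ p ^ e) x = x
  rw [chainStab_pow a.2, ← he, pow_card_eq_one', mul_one]

/-- An automorphism of order prime to `p` of a quasisimple system, trivial modulo the centre and
transporting the maps, is trivial. -/
theorem central_coprime_trivial [Finite U] (hU : IsPGroup p U) {C : FusionSystem U}
    (hq : C.Quasisimple p) {β : MulAut U} (hc : (orderOf β).Coprime p)
    (hmod : ∀ x : U, (x : Ω)⁻¹ * ((β x : U) : Ω) ∈ C.center)
    (htr : ∀ (P : Subgroup Ω) (φ : P →* Ω), φ ∈ C.Hom P → ∀ hPU : P ≤ U,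
      ∃ φ' ∈ C.Hom ((P.subgroupOf U).map (U.subtype.comp β.toMonoidHom)), ∀ (x : P)
        (hφx : φ x ∈ U)
        (h' : ((β ⟨x, hPU x.2⟩ : U) : Ω) ∈ (P.subgroupOf U).map (U.subtype.comp β.toMonoidHom)),
        φ' ⟨_, h'⟩ = ((β ⟨φ x, hφx⟩ : U) : Ω)) :
    β = 1 := by
  set Z := C.center
  have hZU : Z ≤ U := (Central.center_stronglyClosed C).1
  have hZc : ∀ z ∈ Z, ∀ x ∈ U, x * z = z * x := fun z hz x hx => C.center_le_centralizer hz x hx
  let L : Subgroup Ω := (MonoidHom.eqLocus β.toMonoidHom (MonoidHom.id U)).map U.subtype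
  have hLmem : ∀ y : U, β y = y → (y : Ω) ∈ L := fun y hy => ⟨y, hy, rfl⟩
  have hcomm : ∀ a b : U, β (a⁻¹ * b * a * b⁻¹) = a⁻¹ * b * a * b⁻¹ := by
    intro a b
    refine Subtype.ext ?_
    obtain ⟨za, hza, hβa⟩ : ∃ z ∈ Z, ((β a : U) : Ω) = a * z :=
      ⟨_, hmod a, (mul_inv_cancel_left _ _).symm⟩
    obtain ⟨zb, hzb, hβb⟩ : ∃ z ∈ Z, ((β b : U) : Ω) = b * z :=
      ⟨_, hmod b, (mul_inv_cancel_left _ _).symm⟩
    simp only [map_mul, map_inv, Subgroup.coe_mul, Subgroup.coe_inv, hβa, hβb]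
    have e1 : ∀ y ∈ U, za⁻¹ * y = y * za⁻¹ := fun y hy => (hZc _ (Z.inv_mem hza) y hy).symm
    have e2 : ∀ y ∈ U, zb * y = y * zb := fun y hy => (hZc _ hzb y hy).symm
    calc ((a : Ω) * za)⁻¹ * (b * zb) * (a * za) * (b * zb)⁻¹
        = za⁻¹ * ((a : Ω)⁻¹ * b) * (zb * a) * za * zb⁻¹ * (b : Ω)⁻¹ := by group
      _ = ((a : Ω)⁻¹ * b) * (za⁻¹ * a) * zb * za * zb⁻¹ * (b : Ω)⁻¹ := by
          rw [e1 _ (U.mul_mem (U.inv_mem a.2) b.2), e2 _ a.2]; group
      _ = ((a : Ω)⁻¹ * b) * a * za⁻¹ * (zb * za) * zb⁻¹ * (b : Ω)⁻¹ := by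
          rw [e1 _ a.2]; group
      _ = (a : Ω)⁻¹ * b * a * (b : Ω)⁻¹ := by rw [e2 _ (hZU hza)]; group
  suffices key : ∀ (P : Subgroup Ω) (φ : P →* Ω), φ ∈ C.Hom P → ∀ x : P, (x : Ω)⁻¹ * φ x ∈ L by
    have hle : U ≤ L := hq.2.1.ge.trans ((Subgroup.closure_le _).mpr (by
      rintro _ ⟨P, α, x, hP, -, rfl⟩
      exact key P _ ((mem_autGroup_iff C hP).mp α.2) x))
    refine MulEquiv.ext fun x => ?_
    obtain ⟨y, hy, hyx⟩ := hle x.2
    obtain rfl : y = x := Subtype.ext hyx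
    exact hy
  intro P φ hφ
  refine closed_induction_centric hU hq.1
    (Good := fun P φ => ∀ x : P, (x : Ω)⁻¹ * φ x ∈ L) ⟨?_, ?_, ?_⟩ (fun Q hQ hQc _ α hα => ?_) hφ
  · intro P Q φ hQ _ h x
    exact h (Subgroup.inclusion hQ x)
  · intro P Q φ ψ _ _ h hφ hψ x
    have := L.mul_mem (hφ x) (hψ ⟨φ x, h x⟩)
    simpa [mul_assoc] using this
  · intro P Q φ ψ _ _ hr hψ h y
    obtain ⟨x, hx⟩ := hr.ge y.2
    obtain rfl : y = ⟨φ x, hr.le ⟨x, rfl⟩⟩ := Subtype.ext hx.symm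
    rw [hψ]
    simpa using L.inv_mem (h x)
  have hQU := hQ.1
  haveI := finite_of_le hQU
  have hZQ : Z ≤ Q := fun z hz =>
    hQc.2 Q (isConj_refl C hQU) ⟨hZU hz, fun y hy => hZc z hz y (hQU hy)⟩
  have hβQ : ∀ x : U, (x : Ω) ∈ Q → ((β x : U) : Ω) ∈ Q := fun x hx => by
    have := Q.mul_mem hx (hZQ (hmod x))
    rwa [mul_inv_cancel_left] at this
  have hβQ' : ∀ x : U, (x : Ω) ∈ Q → ((β.symm x : U) : Ω) ∈ Q := fun x hx => by
    have h := hZQ (hmod (β.symm x))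
    rw [MulEquiv.apply_symm_apply] at h
    have := Q.mul_mem hx (Q.inv_mem h)
    simpa using this
  let b : MulAut Q :=
    { toFun := fun x => ⟨_, hβQ ⟨x, hQU x.2⟩ x.2⟩
      invFun := fun x => ⟨_, hβQ' ⟨x, hQU x.2⟩ x.2⟩
      left_inv := fun x => Subtype.ext (congrArg Subtype.val (β.symm_apply_apply ⟨x, hQU x.2⟩) :)
      right_inv := fun x => Subtype.ext (congrArg Subtype.val (β.apply_symm_apply ⟨x, hQU x.2⟩) :)
      map_mul' := fun x y => Subtype.ext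
        (congrArg Subtype.val (map_mul β ⟨x, hQU x.2⟩ ⟨y, hQU y.2⟩) :) }
  have hb : ∀ x : Q, ((b x : Q) : Ω) = (β ⟨x, hQU x.2⟩ : U) := fun x => rfl
  have hbmod : ∀ x : Q, (x : Ω)⁻¹ * ((b x : Q) : Ω) ∈ Z := fun x => hmod ⟨x, hQU x.2⟩
  have hfix : ∀ γ ∈ C.autGroup Q, ∀ x : Q, (x : Ω) ∈ Z → γ x = x := fun γ hγ x hx =>
    Subtype.ext (Central.center_fix ((mem_autGroup_iff C hQU).mp hγ) x hx)
  let B : Subgroup (MulAut Q) :=
    { carrier := {a | ∀ x : Q, (x : Ω)⁻¹ * ((a x : Q) : Ω) ∈ L}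
      one_mem' := fun x => by simp
      mul_mem' := fun {a c} ha hc x => by
        have := L.mul_mem (hc x) (ha (c x))
        simpa [mul_assoc] using this
      inv_mem' := fun {a} ha x => by
        have h := L.inv_mem (ha (a⁻¹ x))
        rw [MulAut.apply_inv_self] at h
        simpa using h }
  refine autGroup_le_of_pPrime hU hq.1 hQ (B := B) (fun a ha x => ?_) (fun γ hγ hγc => ?_) hα
  · obtain ⟨u, hu, hux⟩ := mem_autInducedBy_iff.mp ha
    rw [hux, ← mul_assoc, ← mul_assoc]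
    exact hLmem (⟨x, hQU x.2⟩⁻¹ * ⟨u, hu⟩ * ⟨x, hQU x.2⟩ * ⟨u, hu⟩⁻¹) (hcomm _ _)
  -- the transported automorphism
  have hδ : b * γ * b⁻¹ ∈ C.autGroup Q := by
    obtain ⟨φ', hφ', hx'⟩ := htr Q _ ((mem_autGroup_iff C hQU).mp hγ) hQU
    have hle : Q ≤ (Q.subgroupOf U).map (U.subtype.comp β.toMonoidHom) := fun y hy =>
      ⟨β.symm ⟨y, hQU hy⟩, hβQ' _ hy, congrArg Subtype.val (β.apply_symm_apply ⟨y, hQU hy⟩)⟩
    refine (mem_autGroup_iff C hQU).mpr (restrict_mem_apply hφ' hle fun y => ?_)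
    have e : ((β ⟨(b⁻¹ y : Q), hQU (b⁻¹ y).2⟩ : U) : Ω) = y :=
      congrArg Subtype.val (MulAut.apply_inv_self Q b y)
    have h := hx' (b⁻¹ y) (hQU (γ (b⁻¹ y)).2) (e.symm ▸ hle y.2)
    exact h.symm.trans (congrArg φ' (Subtype.ext e))
  set k := b * γ * b⁻¹ * γ⁻¹ with hk
  have hkC : k ∈ C.autGroup Q := mul_mem hδ (inv_mem hγ)
  have hmulZ : ∀ (γ' : MulAut Q), γ' ∈ C.autGroup Q → ∀ x y : Q, (x : Ω)⁻¹ * y ∈ Z →
      ((γ' x : Q) : Ω)⁻¹ * (γ' y : Q) ∈ Z := fun γ' hγ' x y h => by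
    have h2 := hfix γ' hγ' (x⁻¹ * y) h
    rw [map_mul, map_inv] at h2
    have := congrArg Subtype.val h2
    simp only [Subgroup.coe_mul, Subgroup.coe_inv] at this
    rwa [this]
  have hkS : k ∈ chainStab Q Z := by
    intro x
    set y := γ⁻¹ x
    have hx : γ y = x := MulAut.apply_inv_self _ _ _
    have hb' : ((b⁻¹ y : Q) : Ω)⁻¹ * y ∈ Z := by
      have := hbmod (b⁻¹ y)
      rwa [MulAut.apply_inv_self] at this
    have h1 := hmulZ γ hγ _ _ hb'
    have h2 := hbmod (γ (b⁻¹ y))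
    refine ⟨?_, fun hxZ => ?_⟩
    · show (x : Ω)⁻¹ * ((b (γ (b⁻¹ y)) : Q) : Ω) ∈ Z
      rw [hx] at h1
      have := Z.mul_mem (Z.inv_mem h1) h2
      simpa [mul_assoc] using this
    · have hy : y = x := hfix _ (inv_mem hγ) x hxZ
      show b (γ (b⁻¹ y)) = x
      rw [hy] at hb' ⊢
      have hz : ((b⁻¹ x : Q) : Ω) ∈ Z := by
        simpa using Z.mul_mem hxZ (Z.inv_mem hb')
      rw [hfix γ hγ _ hz, MulAut.apply_inv_self]
  have hAp := isPGroup_chainStab (Z := Z) (isPGroup_of_le hU hQU)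
  haveI := finite_autGroup C hQU
  obtain ⟨-, R, hR⟩ := (centralized_automized_of_fullyNormalized hU hq.1 hQ).2
  have hkI : k ∈ autInducedBy U Q := by
    set K := (chainStab Q Z).subgroupOf (C.autGroup Q) with hKdef
    have hKn : K.Normal := ⟨fun a ha g x => by
      set y := (g : MulAut Q)⁻¹ x
      have hy : (g : MulAut Q) y = x := MulAut.apply_inv_self _ _ _
      obtain ⟨h1, h2⟩ := ha y
      refine ⟨?_, fun hx => ?_⟩
      · have h3 := hmulZ _ g.2 _ _ h1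
        rw [hy] at h3
        exact h3
      · show (g : MulAut Q) ((a : MulAut Q) y) = x
        have h4 : (a : MulAut Q) y = y :=
          h2 (by rw [show y = x from hfix _ (inv_mem g.2) x hx]; exact hx)
        rw [h4, hy]⟩
    have hKp : IsPGroup p K := hAp.comap_of_injective _ (C.autGroup Q).subtype_injective
    have hmax := R.is_maximal' (R.2.to_sup_of_normal_right hKp) le_sup_left
    have : (⟨k, hkC⟩ : C.autGroup Q) ∈ (R : Subgroup (C.autGroup Q)) :=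
      hmax.le (Subgroup.mem_sup_right (Subgroup.mem_subgroupOf.mpr hkS))
    rwa [hR] at this
  obtain ⟨u, hu, hux⟩ := mem_autInducedBy_iff.mp hkI
  have hbk : b * k * b⁻¹ = k := by
    refine MulEquiv.ext fun x => Subtype.ext ?_
    obtain ⟨z, hz, hzu⟩ : ∃ z ∈ Z, ((β ⟨u, hu⟩ : U) : Ω) = u * z :=
      ⟨_, hmod ⟨u, hu⟩, (mul_inv_cancel_left _ _).symm⟩
    show ((b (k (b⁻¹ x)) : Q) : Ω) = _
    rw [hb, show (⟨(k (b⁻¹ x) : Q), hQU (k (b⁻¹ x)).2⟩ : U) =
      ⟨u, hu⟩ * ⟨(b⁻¹ x : Q), hQU (b⁻¹ x).2⟩ * ⟨u, hu⟩⁻¹ from Subtype.ext (hux _), map_mul, map_mul,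
      map_inv, Subgroup.coe_mul, Subgroup.coe_mul, Subgroup.coe_inv, hzu, ← hb,
      MulAut.apply_inv_self, hux]
    calc u * z * (x : Ω) * (u * z)⁻¹ = u * (z * x) * z⁻¹ * u⁻¹ := by group
      _ = u * x * u⁻¹ := by rw [← hZc z hz x (hQU x.2)]; group
  have hpow : ∀ n : ℕ, b ^ n * γ * (b ^ n)⁻¹ = k ^ n * γ := by
    intro n
    induction n with
    | zero => simp
    | succ n ih =>
      have hkn : b * k ^ n * b⁻¹ = k ^ n := by rw [← conj_pow, hbk]
      calc b ^ (n + 1) * γ * (b ^ (n + 1))⁻¹ = b * (b ^ n * γ * (b ^ n)⁻¹) * b⁻¹ := by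
            rw [pow_succ']; group
        _ = b * k ^ n * b⁻¹ * (b * γ * b⁻¹) := by rw [ih]; group
        _ = k ^ n * (k * γ) := by rw [hkn, hk]; group
        _ = k ^ (n + 1) * γ := by rw [pow_succ]; group
  have hbpow : ∀ (n : ℕ) (x : Q), (((b ^ n) x : Q) : Ω) = ((β ^ n) ⟨x, hQU x.2⟩ : U) := by
    intro n
    induction n with
    | zero => intro x; rfl
    | succ n ih =>
      intro x
      rw [pow_succ', pow_succ', MulAut.mul_apply, MulAut.mul_apply, hb]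
      exact congrArg (fun v => ((β v : U) : Ω)) (Subtype.ext (ih x))
  have hbm : b ^ orderOf β = 1 := MulEquiv.ext fun x => Subtype.ext (by
    rw [hbpow, pow_orderOf_eq_one]; rfl)
  have hkm : k ^ orderOf β = 1 := by
    have := hpow (orderOf β)
    rw [hbm] at this
    simpa using this.symm
  obtain ⟨e, he⟩ := hAp ⟨k, hkS⟩
  have hk1 : k = 1 := orderOf_eq_one_iff.mp (Nat.eq_one_of_dvd_coprimes (hc.symm.pow_left e)
    (orderOf_dvd_of_pow_eq_one (congrArg Subtype.val he :)) (orderOf_dvd_of_pow_eq_one hkm))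
  have hbγ : b * γ = γ * b := by
    have := hk1
    rw [hk, mul_inv_eq_one, mul_inv_eq_iff_eq_mul] at this
    exact this
  intro x
  obtain ⟨z, hzQ, hz⟩ : ∃ z : Q, (z : Ω) ∈ Z ∧ b x = x * z :=
    ⟨x⁻¹ * b x, hbmod x, by rw [mul_inv_cancel_left]⟩
  have h2 : b (γ x) = γ x * z := by
    have := DFunLike.congr_fun hbγ x
    simp only [MulAut.mul_apply] at this
    rw [this, hz, map_mul, hfix γ hγ z hzQ]
  have h3 : b (x⁻¹ * γ x) = x⁻¹ * γ x := by
    refine Subtype.ext ?_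
    rw [map_mul, map_inv, hz, h2]
    simp only [Subgroup.coe_mul, Subgroup.coe_inv, mul_inv_rev]
    rw [← mul_assoc, mul_assoc (z : Ω)⁻¹]
    calc (z : Ω)⁻¹ * ((x : Ω)⁻¹ * (γ x : Q)) * z = (z : Ω)⁻¹ * (((x : Ω)⁻¹ * (γ x : Q)) * z) := by
          group
      _ = _ := by rw [hZc z hzQ _ (U.mul_mem (U.inv_mem (hQU x.2)) (hQU (γ x).2))]; group
  exact hLmem ⟨_, hQU (x⁻¹ * γ x).2⟩ (Subtype.ext ((hb _).symm.trans (congrArg Subtype.val h3)))



end CfsgLib.FusionFitting
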