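import Cfsg.Agent.Lib.FusionFitting.Descend
import Cfsg.Agent.Lib.FusionFitting.CentralAut
import Cfsg.Agent.Lib.FusionProduct.Existence
import Cfsg.Agent.Lib.FusionBasics.KSaturated
import Cfsg.Agent.Lib.FusionBasics.Central.CentralizerE

/-!
The step of the dichotomy: a component of a normal subsystem `D` centralizing `D ∧ N` centralizes
the normal subsystem `N`.
-/

set_option autoImplicit false
set_option linter.style.haveILetI false
set_option linter.unusedSectionVars false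

namespace CfsgLib.FusionFitting

open Cfsg Cfsg.FusionSystem CfsgLib.Alperin CfsgLib.Alperin.NormalLift CfsgLib.FusionSub
open CfsgLib.FusionBasics

universe u

variable {Ω : Type u} [Group Ω] {S T U V : Subgroup Ω} {p : ℕ} [Fact p.Prime]
  {F : FusionSystem S} {C : FusionSystem U} {D : FusionSystem T} {N : FusionSystem V}

/-- The hypotheses of the step. -/
structure StepData (F : FusionSystem S) (C : FusionSystem U) (D : FusionSystem T)
    (N : FusionSystem V) (p : ℕ) : Prop where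
  isP : IsPGroup p S
  compF : C.IsComponentIn F p
  nrmD : D.IsNormalIn F p
  le : U ≤ T
  nrmN : N.IsNormalIn F p
  /-- a subgroup strongly closed in `D`, containing `U` and commuting with `T ⊓ V` -/
  cent : ∃ W : Subgroup Ω, D.StronglyClosed W ∧ U ≤ W ∧
    ∀ a ∈ W, ∀ b ∈ T ⊓ V, a * b = b * a
  comps : ∀ (U' : Subgroup Ω) (C' : FusionSystem U'), C'.IsComponentIn D p →
    U' = U ∨ ∀ a ∈ U, ∀ b ∈ U', a * b = b * a

variable [Finite S]

theorem StepData.inf_le_center (d : StepData F C D N p) : U ⊓ V ≤ C.center := by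
  have hUS : U ≤ S := d.le.trans d.nrmD.1.2.2.2.1.1
  haveI := finite_of_le hUS
  have hUp := isPGroup_of_le d.isP hUS
  obtain ⟨W, -, hUW, hW⟩ := d.cent
  refine CoreComponent.le_center_of_quasisimple hUp d.compF.2
    (isNormal_of_abelian hUp d.compF.2.1 ⟨inf_le_left, fun R hR φ hφ x => ⟨apply_mem hφ x, ?_⟩⟩
      (le_bot_iff.mp (Subgroup.commutator_le.mpr fun a ha b hb => ?_)))
  · exact stronglyClosed_apply d.nrmN.1.2.2.2.1
      (CoreComponent.subnormal_isSubsystemOf d.compF.1 R hφ) x (hR x.2).2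
  · rw [Subgroup.mem_bot, commutatorElement_eq_one_iff_mul_comm]
    exact hW a (hUW ha.1) b ⟨d.le hb.1, hb.2⟩

theorem StepData.range_eq (d : StepData F C D N p) {δ : U →* Ω} (hδ : δ ∈ F.Hom U)
    (hd : ∀ u : U, (u : Ω)⁻¹ * δ u ∈ V) : δ.range = U := by
  have hTc := d.nrmD.1.2.2.2.1
  have hUS : U ≤ S := d.le.trans hTc.1
  haveI := finite_of_le hUS
  have hrT : δ.range ≤ T := by
    rintro _ ⟨u, rfl⟩
    exact stronglyClosed_apply hTc hδ u (d.le u.2)
  obtain ⟨E, hE⟩ := exists_isFactorSystem C (stronglyClosed_bot' C) δ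
    (fun s => ⟨fun hs => Subgroup.mem_bot.mpr (congrArg Subtype.val
      ((F.injective_of_mem hδ) (hs.trans (map_one δ).symm))),
      fun hs => by rw [show s = 1 from Subtype.ext (Subgroup.mem_bot.mp hs), map_one]⟩) rfl
  rcases d.comps _ E (component_descend d.isP (component_image d.compF hδ hE) d.nrmD hrT) with
    h | h
  · exact h
  obtain ⟨W, -, hUW, hW⟩ := d.cent
  refine absurd ⟨⟨fun a b => Subtype.ext ?_⟩⟩
    (Cfsg.Agent.S5148.result p (isPGroup_of_le d.isP hUS) C d.compF.2)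
  have h1 : (a : Ω) * δ b = δ b * a := h a a.2 _ ⟨b, rfl⟩
  have h2 : (a : Ω) * ((b : Ω)⁻¹ * δ b) = (b : Ω)⁻¹ * δ b * a :=
    hW a (hUW a.2) _ ⟨T.mul_mem (T.inv_mem (d.le b.2)) (hrT ⟨b, rfl⟩), hd b⟩
  show (a : Ω) * b = b * a
  calc (a : Ω) * b = a * δ b * ((b : Ω)⁻¹ * δ b)⁻¹ := by group
    _ = δ b * (a * ((b : Ω)⁻¹ * δ b)⁻¹) := by rw [h1]; group
    _ = δ b * (((b : Ω)⁻¹ * δ b)⁻¹ * a) := by rw [(Commute.inv_right h2).eq]
    _ = b * a := by group

/-- The component centralizes the subgroup of `N`. -/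
theorem StepData.commute (d : StepData F C D N p) : ∀ u ∈ U, ∀ t ∈ V, u * t = t * u := by
  classical
  have hTc := d.nrmD.1.2.2.2.1
  have hVc := d.nrmN.1.2.2.2.1
  have hTS : T ≤ S := hTc.1
  have hUS : U ≤ S := d.le.trans hTS
  haveI := finite_of_le hUS
  haveI := finite_of_le hTS
  have hUp := isPGroup_of_le d.isP hUS
  have hq := d.compF.2
  intro u hu t ht
  have htS : t ∈ S := hVc.1 ht
  have hδF : conjHom U t ∈ F.Hom U := F.conj_mem hUS htS
  have hf : ∀ x ∈ U, x⁻¹ * (t * x * t⁻¹) ∈ V := fun x hx => by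
    rw [show x⁻¹ * (t * x * t⁻¹) = (x⁻¹ * t * x⁻¹⁻¹) * t⁻¹ by group]
    exact V.mul_mem (stronglyClosed_conj hVc (S.inv_mem (hUS hx)) ht) (V.inv_mem ht)
  have hr : (conjHom U t).range = U := d.range_eq hδF fun x => hf x x.2
  have hfZ : ∀ x ∈ U, x⁻¹ * (t * x * t⁻¹) ∈ U ⊓ V := fun x hx =>
    ⟨U.mul_mem (U.inv_mem hx) (hr.le ⟨⟨x, hx⟩, rfl⟩), hf x hx⟩
  have hZc : ∀ z ∈ U ⊓ V, ∀ x ∈ U, x * z = z * x := fun z hz x hx =>
    C.center_le_centralizer (d.inf_le_center hz) x hx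
  suffices key : ∀ (P : Subgroup Ω) (φ : P →* Ω), φ ∈ C.Hom P → ∀ x : P,
      (φ x)⁻¹ * (t * φ x * t⁻¹) = (x : Ω)⁻¹ * (t * x * t⁻¹) by
    have hle : U ≤ Subgroup.centralizer {t} := hq.2.1.ge.trans ((Subgroup.closure_le _).mpr (by
      rintro _ ⟨P, α, x, hP, -, rfl⟩
      have h := key P _ ((mem_autGroup_iff C hP).mp α.2) x
      set y : Ω := (((α : MulAut P) x : P) : Ω) with hy
      change y⁻¹ * (t * y * t⁻¹) = _ at h
      show (x : Ω)⁻¹ * y ∈ Subgroup.centralizer {t}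
      rw [Subgroup.mem_centralizer_singleton_iff]
      have hz := hZc _ (hfZ x (hP x.2)) ((x : Ω)⁻¹ * y)
        (U.mul_mem (U.inv_mem (hP x.2)) (hP ((α : MulAut P) x).2))
      have : t * ((x : Ω)⁻¹ * y) * t⁻¹ = (x : Ω)⁻¹ * y := by
        calc t * ((x : Ω)⁻¹ * y) * t⁻¹
            = ((x : Ω)⁻¹ * (t * x * t⁻¹))⁻¹ * ((x : Ω)⁻¹ * y * (y⁻¹ * (t * y * t⁻¹))) := by group
          _ = (x : Ω)⁻¹ * y := by rw [h, hz, inv_mul_cancel_left]
      exact (mul_inv_eq_iff_eq_mul.mp this).symm))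
    exact (Subgroup.mem_centralizer_singleton_iff.mp (hle hu))
  intro P φ hφ
  refine closed_induction_centric hUp hq.1
    (Good := fun P φ => ∀ x : P, (φ x)⁻¹ * (t * φ x * t⁻¹) = (x : Ω)⁻¹ * (t * x * t⁻¹))
    ⟨?_, ?_, ?_⟩ (fun Q hQ hQc _ α hα => ?_) hφ
  · intro P Q φ hQ _ h x
    exact h (Subgroup.inclusion hQ x)
  · intro P Q φ ψ _ _ h hφ hψ x
    exact (hψ ⟨φ x, h x⟩).trans (hφ x)
  · intro P Q φ ψ _ _ hr hψ h y
    obtain ⟨x, hx⟩ := hr.ge y.2
    obtain rfl : y = ⟨φ x, hr.le ⟨x, rfl⟩⟩ := Subtype.ext hx.symm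
    rw [hψ]
    exact (h x).symm
  have hQU := hQ.1
  have hQS : Q ≤ S := hQU.trans hUS
  haveI := finite_of_le hQS
  let B : Subgroup (MulAut Q) :=
    { carrier := {a | ∀ x : Q, ((a x : Q) : Ω)⁻¹ * (t * (a x : Q) * t⁻¹) =
        (x : Ω)⁻¹ * (t * x * t⁻¹)}
      one_mem' := fun _ => rfl
      mul_mem' := fun {a b} ha hb x => (ha (b x)).trans (hb x)
      inv_mem' := fun {a} ha x => by
        have h := ha (a⁻¹ x)
        rw [MulAut.apply_inv_self] at h
        exact h.symm }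
  refine autGroup_le_of_pPrime hUp hq.1 hQ (B := B) (fun a ha x => ?_) (fun γ hγ hγc => ?_) hα
  · obtain ⟨v, hv, hvx⟩ := mem_autInducedBy_iff.mp ha
    rw [hvx]
    set fv : Ω := v⁻¹ * (t * v * t⁻¹) with hfv
    have hxU : (x : Ω) ∈ U := hQU x.2
    calc (v * (x : Ω) * v⁻¹)⁻¹ * (t * (v * x * v⁻¹) * t⁻¹)
        = v * ((x : Ω)⁻¹ * (fv * (t * x * t⁻¹))) * fv⁻¹ * v⁻¹ := by rw [hfv]; group
      _ = v * ((x : Ω)⁻¹ * (t * x * t⁻¹) * fv) * fv⁻¹ * v⁻¹ := by
          rw [← hZc fv (hfZ v hv) (t * x * t⁻¹) (hr.le ⟨⟨x, hxU⟩, rfl⟩)]; group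
      _ = v * ((x : Ω)⁻¹ * (t * x * t⁻¹)) * v⁻¹ := by group
      _ = (x : Ω)⁻¹ * (t * x * t⁻¹) := by rw [hZc _ (hfZ x hxU) v hv, mul_inv_cancel_right]
  -- the product system
  have c : CfsgLib.FusionProduct.Ctx F D p S :=
    ⟨⟨d.isP, d.nrmD.1.2.1, d.nrmD⟩, hTS, le_rfl⟩
  set G := CfsgLib.FusionProduct.dSys c with hGdef
  have hG : G.IsSaturated p := CfsgLib.FusionProduct.dSys_isSaturated c
  have hGF : G.IsSubsystemOf F := CfsgLib.FusionProduct.dSys_le_F c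
  have hCD : C.IsSubsystemOf D :=
    CoreComponent.subnormal_isSubsystemOf (component_descend d.isP d.compF d.nrmD d.le).1
  have hγG : γ ∈ G.autGroup Q := (mem_autGroup_iff G hQS).mpr
    (CfsgLib.FusionProduct.le_dSys c Q (hCD Q ((mem_autGroup_iff C hQU).mp hγ)))
  set Z := U ⊓ V
  have hZQ : Z ≤ Q := fun z hz =>
    hQc.2 Q (isConj_refl C hQU) ⟨hz.1, fun y hy => hZc z hz y (hQU hy)⟩
  have hγfix : ∀ x : Q, (x : Ω) ∈ Z → γ x = x := fun x hx => Subtype.ext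
    (Central.center_fix ((mem_autGroup_iff C hQU).mp hγ) x (d.inf_le_center hx))
  have htN : t ∈ Subgroup.normalizer (Q : Set Ω) := by
    have hmem : ∀ s ∈ V, (∀ x ∈ U, x⁻¹ * (s * x * s⁻¹) ∈ Z) → ∀ x ∈ Q, s * x * s⁻¹ ∈ Q :=
      fun s _ hs x hx => by
        have := Q.mul_mem hx (hZQ (hs x (hQU hx)))
        rwa [mul_inv_cancel_left] at this
    refine Subgroup.mem_normalizer_fintype (S := (Q : Set Ω)) fun x hx => ?_
    exact hmem t ht hfZ x hx
  set ct := conjAut Q t htN with hct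
  let L : Subgroup (MulAut Q) :=
    { carrier := {a | (∀ x : Q, (x : Ω)⁻¹ * ((a x : Q) : Ω) ∈ Z) ∧
        ∃ s ∈ Subgroup.zpowers t, ∀ x : Q, (x : Ω) ∈ Z → ((a x : Q) : Ω) = s * x * s⁻¹}
      one_mem' := ⟨fun x => by simp, 1, Subgroup.one_mem _, fun x _ => by simp⟩
      mul_mem' := by
        rintro a b ⟨ha, r, hr', ha'⟩ ⟨hb, s, hs', hb'⟩
        refine ⟨fun x => ?_, r * s, mul_mem hr' hs', fun x hx => ?_⟩
        · have := Z.mul_mem (hb x) (ha (b x))
          simpa [mul_assoc] using this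
        · have hbx : ((b x : Q) : Ω) ∈ Z := by
            have := Z.mul_mem hx (hb x)
            rwa [mul_inv_cancel_left] at this
          rw [MulAut.mul_apply, ha' _ hbx, hb' x hx]
          group
      inv_mem' := by
        rintro a ⟨ha, r, hr', ha'⟩
        refine ⟨fun x => ?_, r⁻¹, inv_mem hr', fun x hx => ?_⟩
        · have h := Z.inv_mem (ha (a⁻¹ x))
          rw [MulAut.apply_inv_self] at h
          simpa using h
        · have h := ha (a⁻¹ x)
          rw [MulAut.apply_inv_self] at h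
          have hy : ((a⁻¹ x : Q) : Ω) ∈ Z := by
            have := Z.mul_mem hx (Z.inv_mem h)
            simpa using this
          have h2 := ha' _ hy
          rw [MulAut.apply_inv_self] at h2
          rw [h2]
          group }
  have hctL : ct ∈ L :=
    ⟨fun x => hfZ x (hQU x.2), t, Subgroup.mem_zpowers t, fun x _ => rfl⟩
  have hctG : ct ∈ G.autGroup Q :=
    autInducedBy_le_autGroup G hQS (conjAut_mem htS htN)
  haveI := finite_autGroup G hQS
  haveI := finite_mulAut (P := Q)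
  have hLp : IsPGroup p L := by
    obtain ⟨e, he⟩ := IsPGroup.iff_card.mp d.isP
    obtain ⟨e', he'⟩ := IsPGroup.iff_card.mp (isPGroup_of_le d.isP hQS)
    rintro ⟨a, ha, s, hs, hsx⟩
    refine ⟨e + e', Subtype.ext ?_⟩
    show a ^ p ^ (e + e') = 1
    have hsS : s ∈ S := (Subgroup.zpowers_le.mpr htS) hs
    have hs1 : s ^ p ^ e = 1 :=
      congrArg Subtype.val (he ▸ pow_card_eq_one' : (⟨s, hsS⟩ : S) ^ p ^ e = 1)
    have hn : ∀ (n : ℕ) (x : Q), (x : Ω) ∈ Z →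
        (((a ^ n) x : Q) : Ω) = s ^ n * x * (s ^ n)⁻¹ := by
      intro n
      induction n with
      | zero => intro x _; simp
      | succ n ih =>
        intro x hx
        have hbx : ((a x : Q) : Ω) ∈ Z := by
          have := Z.mul_mem hx (ha x)
          rwa [mul_inv_cancel_left] at this
        rw [pow_succ, MulAut.mul_apply, ih _ hbx, hsx x hx, pow_succ]
        group
    have hmodn : ∀ (n : ℕ) (x : Q), (x : Ω)⁻¹ * (((a ^ n) x : Q) : Ω) ∈ Z := by
      intro n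
      induction n with
      | zero => intro x; simp
      | succ n ih =>
        intro x
        have := Z.mul_mem (ih x) (ha ((a ^ n) x))
        rw [pow_succ', MulAut.mul_apply]
        simpa [mul_assoc] using this
    have hmem : a ^ p ^ e ∈ chainStab Q Z := fun x => ⟨hmodn _ x, fun hx => Subtype.ext (by
      rw [hn _ x hx, hs1]; simp)⟩
    refine MulEquiv.ext fun x => ?_
    rw [pow_add, pow_mul, chainStab_pow hmem, ← he', pow_card_eq_one', mul_one]
    rfl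
  obtain ⟨Q', e, heG, hQ'r, hcard⟩ := exists_good d.isP hG hQS L
  set η := Q'.subtype.comp e.toMonoidHom with hη
  have hQ'S : Q' ≤ S := hQ'r.1
  haveI := finite_of_le hQ'S
  haveI := finite_mulAut (P := Q')
  have hηr : η.range = Q' := by
    ext y
    constructor
    · rintro ⟨x, rfl⟩
      exact (e x).2
    · intro hy
      exact ⟨e.symm ⟨y, hy⟩, by simp [hη]⟩
  have hGmap : (G.autGroup Q).map (MulAut.congr e).toMonoidHom = G.autGroup Q' := by
    rw [← autGroup_map_congr heG hηr]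
    rw [show e = isoOfHom η (G.injective_of_mem heG) hηr from
      MulEquiv.ext fun x => Subtype.ext rfl]
  set A := (G.autGroup Q ⊓ L).map (MulAut.congr e).toMonoidHom with hA
  have hAeq : autInducedBy S Q' ⊓ L.map (MulAut.congr e).toMonoidHom = A := by
    have hle : autInducedBy S Q' ⊓ L.map (MulAut.congr e).toMonoidHom ≤ A := by
      rintro _ ⟨h1, a, ha, rfl⟩
      obtain ⟨a', ha', haa⟩ := hGmap.ge (autInducedBy_le_autGroup G hQ'S h1)
      obtain rfl := (MulAut.congr e).injective haa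
      exact ⟨_, ⟨ha', ha⟩, rfl⟩
    refine Subgroup.eq_of_le_of_card_ge hle (le_of_eq ?_)
    rw [hcard, hA, Subgroup.card_map_of_injective (MulAut.congr e).injective]
    haveI : Finite ↥(G.autGroup Q ⊓ L) :=
      Finite.of_injective _ (Subgroup.inclusion_injective inf_le_left)
    obtain ⟨n, hn⟩ := IsPGroup.iff_card.mp (hLp.to_le (inf_le_right : G.autGroup Q ⊓ L ≤ L))
    rw [hn, Nat.Prime.factorization_pow (Fact.out : p.Prime), Finsupp.single_eq_same]
  -- extend the transport over `t`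
  obtain ⟨⟨s, hs, hsx⟩, -⟩ : (∃ s ∈ S, ∀ y : Q', ((MulAut.congr e ct y : Q') : Ω) = s * y * s⁻¹) ∧
      True := by
    refine ⟨?_, trivial⟩
    have h := (hAeq.ge ⟨ct, ⟨hctG, hctL⟩, rfl⟩).1
    exact mem_autInducedBy_iff.mp h
  obtain ⟨ηR, hηR, hηRx⟩ := hQ'r.2 Q η heG hηr
  have htR : t ∈ extender S Q η := mem_extender_iff.mpr ⟨htS, htN, s, hs, fun x hx => by
    have := hsx (e x)
    refine Eq.trans ?_ this
    show ((e _ : Q') : Ω) = ((e (ct (e.symm (e x))) : Q') : Ω)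
    rw [MulEquiv.symm_apply_apply]
    rfl⟩
  set t' := ηR ⟨t, htR⟩ with ht'
  have hηQ : ∀ (x : Q), ηR ⟨x, le_extender heG x.2⟩ = (e x : Q') := fun x => hηRx x x.2 _
  have hηF : ηR ∈ F.Hom (extender S Q η) := hGF _ hηR
  have ht'V : t' ∈ V := stronglyClosed_apply hVc hηF _ ht
  have hconj : ∀ x : Q, t' * (e x : Q') * t'⁻¹ = ((e (ct x) : Q') : Ω) := fun x => by
    rw [← hηQ x, ← hηQ (ct x), ht', ← map_inv, ← map_mul, ← map_mul]
    exact congrArg ηR (Subtype.ext rfl)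
  -- the extension of the transported automorphism
  set γ' := MulAut.congr e γ with hγ'
  have hγ'G : γ' ∈ G.autGroup Q' := hGmap.le ⟨γ, hγG, rfl⟩
  have hγ'F := (mem_autGroup_iff G hQ'S).mp hγ'G
  have hAconj : ∀ a ∈ A, γ' * a * γ'⁻¹ ∈ A := by
    rintro _ ⟨a, ⟨ha, haL, r, hr', hax⟩, rfl⟩
    refine ⟨γ * a * γ⁻¹, ⟨mul_mem (mul_mem hγG ha) (Subgroup.inv_mem _ hγG), fun x => ?_, r, hr',
      fun x hx => ?_⟩, by rw [map_mul, map_mul, map_inv]; rfl⟩
    · set y := γ⁻¹ x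
      have hy : γ y = x := MulAut.apply_inv_self _ _ _
      have h3 := congrArg Subtype.val
        ((map_mul γ y⁻¹ (a y)).symm.trans (hγfix (y⁻¹ * a y) (haL y)))
      simp only [map_inv, hy, Subgroup.coe_mul, Subgroup.coe_inv] at h3
      show (x : Ω)⁻¹ * ((γ (a y) : Q) : Ω) ∈ Z
      rw [h3]
      exact haL y
    · have hy : γ⁻¹ x = x := γ.injective ((MulAut.apply_inv_self _ γ x).trans (hγfix x hx).symm)
      have hax' : ((a x : Q) : Ω) ∈ Z := by
        have := Z.mul_mem hx (haL x)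
        rwa [mul_inv_cancel_left] at this
      show ((γ (a (γ⁻¹ x)) : Q) : Ω) = _
      rw [hy, hγfix _ hax', hax x hx]
  set R' := normL S Q' (L.map (MulAut.congr e).toMonoidHom) with hR'
  set K := Q' ⊔ R' with hK
  have hR'N : R' ≤ normalizerIn S Q' := normL_le_normalizerIn _ _ _
  have hKS : K ≤ S := sup_le hQ'S (hR'N.trans (normalizerIn_le S Q'))
  haveI := finite_of_le hKS
  obtain ⟨Ψ₀, hΨ₀, hΨ₀x⟩ := hQ'r.2 Q' _ hγ'F (CfsgLib.FusionSub.range_subtype_comp_aut γ')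
  have hR'ext : K ≤ extender S Q' (Q'.subtype.comp γ'.toMonoidHom) := by
    refine sup_le (le_extender hγ'F) fun r hr' => ?_
    obtain ⟨hrS, b, hbL, hbx⟩ := mem_normL.mp hr'
    have hbA : b ∈ A := hAeq.le ⟨mem_autInducedBy_iff.mpr ⟨r, hrS, hbx⟩, hbL⟩
    obtain ⟨h, hh, hhx⟩ := mem_autInducedBy_iff.mp (hAeq.ge (hAconj b hbA)).1
    refine mem_extender_iff.mpr ⟨hrS, (hR'N hr').2, h, hh, fun x hx => ?_⟩
    refine Eq.trans ?_ (hhx (γ' x))
    show ((γ' ⟨r * x * r⁻¹, hx⟩ : Q') : Ω) = ((γ' (b (γ'⁻¹ (γ' x))) : Q') : Ω)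
    rw [MulAut.inv_apply_self]
    exact congrArg (fun v => ((γ' v : Q') : Ω)) (Subtype.ext (hbx x).symm)
  set Ψ₁ := Ψ₀.comp (Subgroup.inclusion hR'ext) with hΨ₁
  have hΨ₁G : Ψ₁ ∈ G.Hom K := restrict_mem hΨ₀ hR'ext
  have hΨQ : ∀ x : Q', Ψ₁ (Subgroup.inclusion le_sup_left x) = (γ' x : Q') := fun x =>
    hΨ₀x x x.2 _
  have hΨK : ∀ z : K, Ψ₁ z ∈ K := by
    refine fun z => apply_mem_of_sup Ψ₁ (fun x => Subgroup.mem_sup_left ?_) (fun r => ?_) z
    · rw [hΨQ]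
      exact (γ' x).2
    obtain ⟨hrS, b, hbL, hbx⟩ := mem_normL.mp r.2
    have hbA : b ∈ A := hAeq.le ⟨mem_autInducedBy_iff.mpr ⟨r, hrS, hbx⟩, hbL⟩
    refine Subgroup.mem_sup_right (mem_normL.mpr ⟨apply_mem hΨ₁G _, γ' * b * γ'⁻¹,
      (hAeq.ge (hAconj b hbA)).2, fun x => ?_⟩)
    have key := congrArg Ψ₁ (show Subgroup.inclusion (le_sup_right : R' ≤ K) r *
        Subgroup.inclusion le_sup_left (γ'⁻¹ x) * (Subgroup.inclusion le_sup_right r)⁻¹ =
        Subgroup.inclusion le_sup_left (b (γ'⁻¹ x)) from Subtype.ext (hbx _).symm)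
    rw [map_mul, map_mul, map_inv, hΨQ, hΨQ, MulAut.apply_inv_self] at key
    exact key.symm
  obtain ⟨Ψ, hΨ, hΨx⟩ := exists_aut_of_hom' G hΨ₁G hΨK
  obtain ⟨j, hj, hjp⟩ := Central.exists_exponent (p := p)
    (show (orderOf γ').Coprime p by rw [hγ', MulEquiv.orderOf_eq]; exact hγc)
    ((orderOf Ψ).factorization p)
  haveI := finite_mulAut (P := K)
  have hΨc : (orderOf (Ψ ^ j)).Coprime p := by
    rw [orderOf_pow]
    have h1 : p ^ (orderOf Ψ).factorization p ∣ (orderOf Ψ).gcd j :=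
      Nat.dvd_gcd (Nat.ordProj_dvd _ _) hjp
    refine Nat.Coprime.coprime_dvd_left (Nat.div_dvd_div_left (Nat.gcd_dvd_left _ _) h1) ?_
    exact (Nat.coprime_ordCompl (Fact.out : p.Prime) (orderOf_pos Ψ).ne').symm
  have hpowQ : ∀ (n : ℕ) (x : Q'), (Ψ ^ n) (Subgroup.inclusion le_sup_left x) =
      Subgroup.inclusion le_sup_left ((γ' ^ n) x) := by
    intro n
    induction n with
    | zero => simp
    | succ n ih =>
      intro x
      rw [pow_succ', pow_succ', MulAut.mul_apply, MulAut.mul_apply, ih]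
      exact Subtype.ext ((hΨx _).trans (hΨQ _))
  have ht'K : t' ∈ K := Subgroup.mem_sup_right (mem_normL.mpr ⟨hVc.1 ht'V, MulAut.congr e ct,
    ⟨ct, hctL, rfl⟩, fun y => by
      show ((e (ct (e.symm y)) : Q') : Ω) = _
      rw [← hconj, MulEquiv.apply_symm_apply]⟩)
  set Φ := Ψ ^ j with hΦ
  set w : Ω := t'⁻¹ * ((Φ ⟨t', ht'K⟩ : K) : Ω) with hw
  have hΦG : Φ ∈ G.autGroup K := pow_mem hΨ j
  have hwT : w ∈ T := by
    refine CfsgLib.FusionProduct.dSys_hyperfocal_le c (Subgroup.subset_closure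
      ⟨K, ⟨Φ, hΦG⟩, ⟨t', ht'K⟩, hKS, Subgroup.subset_closure ?_, rfl⟩)
    show (orderOf (⟨Φ, hΦG⟩ : G.autGroup K)).Coprime p
    rw [Subgroup.orderOf_mk]
    exact hΨc
  have hwV : w ∈ V := V.mul_mem (V.inv_mem ht'V)
    (stronglyClosed_apply hVc (hGF _ ((mem_autGroup_iff G hKS).mp hΦG)) ⟨t', ht'K⟩ ht'V)
  -- `w` centralizes the transported subgroup
  have hwQ : ∀ q : Q, ((e q : Q') : Ω) * w = w * (e q : Q') := by
    intro q
    obtain ⟨α', hα', φ₀, hφ₀, hx₀⟩ := d.nrmD.1.2.2.2.2.2 Q (hQU.trans d.le) η (hGF _ heG)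
    obtain ⟨W, hWc, hUW, hW⟩ := d.cent
    have h1 : φ₀ q ∈ W := stronglyClosed_apply hWc hφ₀ q (hUW (hQU q.2))
    have hφT : φ₀ q ∈ T := apply_mem hφ₀ q
    have hwV' : ((α'⁻¹ ⟨w, hwT⟩ : T) : Ω) ∈ V :=
      stronglyClosed_apply hVc ((mem_autGroup_iff F hTS).mp (inv_mem hα')) ⟨w, hwT⟩ hwV
    have h2 : (⟨φ₀ q, hφT⟩ : T) * α'⁻¹ ⟨w, hwT⟩ = α'⁻¹ ⟨w, hwT⟩ * ⟨φ₀ q, hφT⟩ :=
      Subtype.ext (hW _ h1 _ ⟨(α'⁻¹ ⟨w, hwT⟩).2, hwV'⟩)
    have h3 := congrArg (fun v : T => ((α' v : T) : Ω)) h2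
    simp only [map_mul, MulAut.apply_inv_self, Subgroup.coe_mul] at h3
    rwa [← hx₀ q hφT] at h3
  intro x
  set z : Q := x⁻¹ * ct x with hz
  have hzZ : (z : Ω) ∈ Z := hfZ x (hQU x.2)
  have hez : ((e z : Q') : Ω) = ((e x : Q') : Ω)⁻¹ * (t' * (e x : Q') * t'⁻¹) := by
    rw [hz, map_mul, map_inv, Subgroup.coe_mul, Subgroup.coe_inv, hconj]
  have hΦQ : ∀ v : Q, Φ (Subgroup.inclusion le_sup_left (e v)) =
      Subgroup.inclusion le_sup_left (e (γ v)) := fun v => by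
    rw [hΦ, hpowQ, hj (pow_orderOf_eq_one γ'), hγ']
    show _ = Subgroup.inclusion le_sup_left (e (γ v))
    congr 1
    show e (γ (e.symm (e v))) = _
    rw [MulEquiv.symm_apply_apply]
  have hK' : Subgroup.inclusion (le_sup_left : Q' ≤ K) (e z) =
      (Subgroup.inclusion le_sup_left (e x))⁻¹ * (⟨t', ht'K⟩ *
        Subgroup.inclusion le_sup_left (e x) * (⟨t', ht'K⟩)⁻¹) := Subtype.ext hez
  have h4 := congrArg (fun v : K => ((Φ v : K) : Ω)) hK'
  simp only [map_mul, map_inv, hΦQ, hγfix z hzZ, Subgroup.coe_mul, Subgroup.coe_inv,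
    Subgroup.coe_inclusion] at h4
  have hΦt : ((Φ ⟨t', ht'K⟩ : K) : Ω) = t' * w := by rw [hw, mul_inv_cancel_left]
  rw [hΦt] at h4
  have h5 : ((e z : Q') : Ω) = ((e (γ x) : Q') : Ω)⁻¹ * (t' * (e (γ x) : Q') * t'⁻¹) := by
    rw [h4, mul_assoc t' w, ← hwQ (γ x)]
    group
  have h6 : z = (γ x)⁻¹ * ct (γ x) := e.injective (Subtype.ext (by
    rw [h5, map_mul, map_inv, Subgroup.coe_mul, Subgroup.coe_inv, hconj]))
  exact (congrArg Subtype.val h6).symm

/-- The maps of `N` extend fixing the component. -/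
theorem StepData.le_fixedElts (d : StepData F C D N p) : (U : Set Ω) ⊆ Central.fixedElts F N := by
  have hVc := d.nrmN.1.2.2.2.1
  have hUS : U ≤ S := d.le.trans d.nrmD.1.2.2.2.1.1
  haveI := finite_of_le hUS
  haveI := finite_of_le hVc.1
  have hUp := isPGroup_of_le d.isP hUS
  have hVp := isPGroup_of_le d.isP hVc.1
  have hcomm := d.commute
  suffices hall : ∀ (P : Subgroup Ω) (φ : P →* Ω), φ ∈ N.Hom P → FixY F U P φ by
    intro y hy
    refine ⟨⟨hUS hy, fun v hv => (hcomm y hy v hv).symm⟩, fun P φ hφ => ?_⟩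
    obtain ⟨ψ, hψ, hx, hz⟩ := hall P φ hφ
    exact ⟨_, restrict_mem hψ (sup_le_sup_left (Subgroup.zpowers_le.mpr hy) P),
      fun x => hx x, fun z => hz ⟨z, Subgroup.zpowers_le.mpr hy z.2⟩⟩
  intro P φ hφ
  refine closed_induction_centric hVp d.nrmN.1.1 (closed_fixY U) (fun Q hQ hQc _ α hα => ?_) hφ
  have hQS : Q ≤ S := hQ.1.trans hVc.1
  let B : Subgroup (MulAut Q) :=
    { carrier := {a | FixY F U Q (Q.subtype.comp a.toMonoidHom)}
      one_mem' := (FixY.incl hQS hUS).congr fun _ => rfl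
      mul_mem' := fun {a b} ha hb => hb.comp ha (fun x => (b x).2) fun _ => rfl
      inv_mem' := fun {a} ha => ha.inv (CfsgLib.FusionSub.range_subtype_comp_aut a) fun x hx => by
        show (((a⁻¹ : MulAut Q) (a x) : Q) : Ω) = x
        rw [MulAut.inv_apply_self] }
  refine autGroup_le_of_pPrime hVp d.nrmN.1.1 hQ (B := B) (fun a ha => ?_) (fun γ hγ hγc => ?_) hα
  · obtain ⟨v, hv, hvx⟩ := mem_autInducedBy_iff.mp ha
    refine ⟨conjHom _ v, F.conj_mem (sup_le hQS hUS) (hVc.1 hv), fun x => (hvx x).symm,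
      fun y => ?_⟩
    show v * (y : Ω) * v⁻¹ = y
    rw [← hcomm y y.2 v hv, mul_inv_cancel_right]
  set Cs := centralizerIn S V
  have hγN := (mem_autGroup_iff N hQ.1).mp hγ
  obtain ⟨ψ, hψ, hψx, hψc⟩ := goodExt_of_mem d.isP d.nrmN hγN hQc
  rw [CfsgLib.FusionSub.range_subtype_comp_aut] at hψc
  have hQCS : Q ⊔ Cs ≤ S := sup_le hQS (centralizerIn_le S V)
  haveI := finite_of_le hQCS
  obtain ⟨Δ, hΔ, hΔx⟩ := exists_aut_of_hom' F hψ fun z => by
    have := mem_sup_of_good hψx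
      (by rw [CfsgLib.FusionSub.range_subtype_comp_aut]; exact hψc) z
    rwa [CfsgLib.FusionSub.range_subtype_comp_aut] at this
  have hpowQ : ∀ (n : ℕ) (x : Q), (Δ ^ n) (Subgroup.inclusion le_sup_left x) =
      Subgroup.inclusion le_sup_left ((γ ^ n) x) := by
    intro n
    induction n with
    | zero => simp
    | succ n ih =>
      intro x
      rw [pow_succ', pow_succ', MulAut.mul_apply, MulAut.mul_apply, ih]
      exact Subtype.ext ((hΔx _).trans (hψx _))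
  have hpowC : ∀ (n : ℕ) (c : Cs), ∃ q : Q, (Δ ^ n) (Subgroup.inclusion le_sup_right c) =
      Subgroup.inclusion le_sup_right c * Subgroup.inclusion le_sup_left q := by
    intro n
    induction n with
    | zero => exact fun c => ⟨1, by simp⟩
    | succ n ih =>
      intro c
      obtain ⟨q, hq⟩ := ih c
      refine ⟨⟨_, hψc c⟩ * γ q, ?_⟩
      rw [pow_succ', MulAut.mul_apply, hq, map_mul, map_mul, ← mul_assoc]
      congr 1
      · refine Subtype.ext ((hΔx _).trans ?_)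
        show ψ (Subgroup.inclusion le_sup_right c) = (c : Ω) * ((c : Ω)⁻¹ * _)
        rw [mul_inv_cancel_left]
      · exact Subtype.ext ((hΔx _).trans (hψx q))
  haveI := finite_mulAut (P := Q ⊔ Cs)
  obtain ⟨j, hj, hjp⟩ := Central.exists_exponent (p := p) hγc ((orderOf Δ).factorization p)
  have hΔc : (orderOf (Δ ^ j)).Coprime p := by
    rw [orderOf_pow]
    have h1 : p ^ (orderOf Δ).factorization p ∣ (orderOf Δ).gcd j :=
      Nat.dvd_gcd (Nat.ordProj_dvd _ _) hjp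
    refine Nat.Coprime.coprime_dvd_left (Nat.div_dvd_div_left (Nat.gcd_dvd_left _ _) h1) ?_
    exact (Nat.coprime_ordCompl (Fact.out : p.Prime) (orderOf_pos Δ).ne').symm
  set Φ := Δ ^ j with hΦ
  have hΦF := (mem_autGroup_iff F hQCS).mp (pow_mem hΔ j)
  have hle : U ≤ Q ⊔ Cs := fun x hx =>
    Subgroup.mem_sup_right ⟨hUS hx, fun v hv => (hcomm x hx v hv).symm⟩
  set δ : U →* Ω := ((Q ⊔ Cs).subtype.comp Φ.toMonoidHom).comp (Subgroup.inclusion hle) with hδ
  have hδF : δ ∈ F.Hom U := restrict_mem hΦF hle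
  have hδV : ∀ x : U, (x : Ω)⁻¹ * δ x ∈ V := by
    intro x
    obtain ⟨q, hq⟩ := hpowC j ⟨x, hUS x.2, fun v hv => (hcomm x x.2 v hv).symm⟩
    have e : δ x = (x : Ω) * q := congrArg Subtype.val hq
    rw [e, inv_mul_cancel_left]
    exact hQ.1 q.2
  have hr := d.range_eq hδF hδV
  obtain ⟨β, hβ, hβx⟩ := exists_aut_of_hom F hδF hr
  have hβpow : ∀ (n : ℕ) (x : U), (((β ^ n) x : U) : Ω) = ((Φ ^ n) ⟨x, hle x.2⟩ : ↥(Q ⊔ Cs)) := by
    intro n
    induction n with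
    | zero => intro x; rfl
    | succ n ih =>
      intro x
      rw [pow_succ', pow_succ', MulAut.mul_apply, MulAut.mul_apply, hβx]
      exact congrArg (fun v => ((Φ v : ↥(Q ⊔ Cs)) : Ω)) (Subtype.ext (ih x))
  have hβc : (orderOf β).Coprime p := hΔc.coprime_dvd_left (orderOf_dvd_of_pow_eq_one
    (MulEquiv.ext fun x => Subtype.ext (by rw [hβpow, pow_orderOf_eq_one]; rfl)))
  have hβ1 : β = 1 := central_coprime_trivial hUp d.compF.2 hβc (fun x => by
      rw [hβx]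
      exact d.inf_le_center ⟨U.mul_mem (U.inv_mem x.2) (hr.le ⟨x, rfl⟩), hδV x⟩)
    fun R ρ hρ hRU => by
      rw [show U.subtype.comp β.toMonoidHom = δ from MonoidHom.ext hβx]
      obtain ⟨φ', hφ', hx'⟩ := component_transport d.isP d.compF hδF hr hρ
      refine ⟨φ', hφ', fun x hρx h' => ?_⟩
      rw [hβx ⟨ρ x, hρx⟩]
      have h'' : δ ⟨x, hRU x.2⟩ ∈ (R.subgroupOf U).map δ := ⟨_, x.2, rfl⟩
      rw [show (⟨_, h'⟩ : ↥((R.subgroupOf U).map δ)) = ⟨_, h''⟩ from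
        Subtype.ext (hβx ⟨x, hRU x.2⟩)]
      exact hx' ⟨x, hRU x.2⟩ x.2 h''
  refine ⟨_, restrict_mem hΦF (sup_le_sup_left (fun x hx =>
    (⟨hUS hx, fun v hv => (hcomm x hx v hv).symm⟩ : x ∈ Cs)) Q), fun x => ?_, fun y => ?_⟩
  · exact (congrArg (fun v : ↥(Q ⊔ Cs) => (v : Ω)) ((hpowQ j x).trans
      (congrArg _ (by rw [hj (pow_orderOf_eq_one γ)]; rfl))))
  · exact (hβx y).symm.trans (by rw [hβ1]; rfl)

end CfsgLib.FusionFitting
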