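import Cfsg.Agent.Lib.FusionFitting.NormalTrans
import Cfsg.Agent.Lib.FusionFitting.Dichotomy
import Cfsg.Agent.Lib.FusionBasics.Reduction.CentralizerNormal
import Cfsg.Agent.Lib.FusionBasics.Central.Product
import Cfsg.Agent.Lib.Alperin.LayerChar
import Cfsg.Agent.S5162

/-!
A component is normal in a system which is its own layer.
-/

set_option autoImplicit false
set_option linter.style.haveILetI false
set_option linter.unusedSectionVars false

namespace CfsgLib.FusionFitting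

open Cfsg Cfsg.FusionSystem CfsgLib.Alperin CfsgLib.Alperin.NormalLift CfsgLib.FusionSub
open CfsgLib.FusionBasics CfsgLib.FusionBasics.Central

universe u

variable {Ω : Type u} [Group Ω] {S T U A B : Subgroup Ω} {p : ℕ} [Fact p.Prime]

/-- The layer of a normal subsystem is normal. -/
theorem layer_isNormalIn [Finite S] (hS : IsPGroup p S) {F : FusionSystem S} {D : FusionSystem T}
    (hD : D.IsNormalIn F p) {V : Subgroup Ω} {L : FusionSystem V} (hL : L.IsLayerOf D p) :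
    L.IsNormalIn F p := by
  have hTS := hD.1.2.2.2.1.1
  haveI := finite_of_le hTS
  refine isNormalIn_of_invUnder hS hD hL.1 fun α hα P hPT φ hφ => ?_
  have mor : ∀ a : MulAut T, a ∈ F.autGroup T →
      D.IsMorphism D (T.subtype.comp a.toMonoidHom) := fun a ha =>
    ⟨fun s => (a s).2, fun Q ψ hψ => by
      obtain ⟨χ, hχ, hx⟩ := hD.1.2.2.2.2.1 Q (dom_le hψ) ψ hψ a ha
      exact ⟨χ, hχ, dom_le hψ, fun x => CfsgLib.Alperin.apply_mem hψ x,
        fun x => ⟨⟨x, dom_le hψ x.2⟩, x.2, rfl⟩, fun x => hx x _ _⟩⟩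
  obtain ⟨-, hc⟩ := layer_characteristic hL α (mor α hα) (mor α⁻¹ (inv_mem hα))
  have hφD : φ ∈ D.Hom P := hL.1.1.2.2.1 P hφ
  obtain ⟨χ, hχ, hx⟩ := hD.1.2.2.2.2.1 P hPT φ hφD α hα
  exact ⟨χ, hc P φ hφ χ ⟨hPT, fun x => CfsgLib.Alperin.apply_mem hφD x,
    fun x => ⟨⟨x, hPT x.2⟩, x.2, rfl⟩, fun x => hx x _ _⟩, hx⟩

/-- A normal subsystem of a factor of a split system is normal in the system. -/
theorem isNormalIn_of_left [Finite S] {F : FusionSystem S} (hF : F.IsSaturated p)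
    (hs : CSplit F A B) {H : Subgroup Ω} {X : FusionSystem H}
    (hX : X.IsNormalIn (leftSystem hs) p) : X.IsNormalIn F p := by
  obtain ⟨⟨hXs, -, hXA, hHc, hXinv, hXfrat⟩, hXext⟩ := hX
  have hHA : H ≤ A := hHc.1
  have hAS : A ≤ S := hs.closedL.1
  have hHS := hHA.trans hAS
  have haut : ∀ a : MulAut H, a ∈ F.autGroup H ↔ a ∈ (leftSystem hs).autGroup H := fun a => by
    rw [mem_autGroup_iff F hHS, mem_autGroup_iff _ hHA, leftSystem_hom hs hHA]
  refine ⟨⟨hXs, hF, fun P φ hφ => (hXA P hφ).1,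
    ⟨hHS, fun P hP φ hφ x => hHc.2 P hP φ ⟨hφ, hP.trans hHA⟩ x⟩,
    fun P hP φ hφ a ha => hXinv P hP φ hφ a ((haut a).mp ha), fun P hP φ hφ => ?_⟩, fun a ha => ?_⟩
  · obtain ⟨a, ha, φ₀, hφ₀, hx⟩ := hXfrat P hP φ ⟨hφ, hP.trans hHA⟩
    exact ⟨a, (haut a).mpr ha, φ₀, hφ₀, hx⟩
  obtain ⟨β, hβ, hβH, hβC⟩ := hXext a ha
  have hWA : (H ⊔ centralizerIn A H) ≤ A := sup_le hHA (centralizerIn_le A H)
  obtain ⟨ψ, hψ, hψx, hψB⟩ := hs.liftL (H ⊔ centralizerIn A H) hWA ((H ⊔ centralizerIn A H).subtype.comp β.toMonoidHom)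
    ((mem_autGroup_iff _ hWA).mp hβ).1
  have hsplit : ∀ c ∈ centralizerIn S H, ∃ u ∈ centralizerIn A H, ∃ b ∈ B, c = u * b := by
    intro c hc
    obtain ⟨u, hu, b, hb, rfl⟩ := exists_mul_of_le_sup hs.comm (hs.sup_eq.ge hc.1)
    refine ⟨u, ⟨hu, fun h hh => ?_⟩, b, hb, rfl⟩
    have h1 : h * (u * b) = u * b * h := hc.2 h hh
    rw [mul_assoc u b h, ← hs.comm h (hHA hh) b hb, ← mul_assoc, ← mul_assoc] at h1
    exact mul_right_cancel h1
  have hle : H ⊔ centralizerIn S H ≤ (H ⊔ centralizerIn A H) ⊔ B := sup_le (le_sup_left.trans le_sup_left) fun c hc => by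
    obtain ⟨u, hu, b, hb, rfl⟩ := hsplit c hc
    exact Subgroup.mul_mem _ (Subgroup.mem_sup_left (Subgroup.mem_sup_right hu))
      (Subgroup.mem_sup_right hb)
  set f := ψ.comp (Subgroup.inclusion hle) with hf
  have hfH : ∀ x : H, f (Subgroup.inclusion le_sup_left x) = ((a x : H) : Ω) := fun x =>
    ((congrArg ψ (Subtype.ext rfl)).trans (hψx (Subgroup.inclusion le_sup_left x))).trans (hβH x)
  have hfC : ∀ c : ↥(H ⊔ centralizerIn S H), (c : Ω) ∈ centralizerIn S H →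
      (c : Ω)⁻¹ * f c ∈ H ⊓ Subgroup.centralizer (H : Set Ω) := by
    intro c hc
    obtain ⟨u, hu, b, hb, hcub⟩ := hsplit c hc
    have hz := hβC ⟨u, Subgroup.mem_sup_right hu⟩ hu
    have e : f c = ((β ⟨u, Subgroup.mem_sup_right hu⟩ : ↥(H ⊔ centralizerIn A H)) : Ω) * b := by
      refine (congrArg ψ (Subtype.ext hcub : Subgroup.inclusion hle c =
        Subgroup.inclusion le_sup_left (⟨u, Subgroup.mem_sup_right hu⟩ : ↥(H ⊔ centralizerIn A H)) *
          Subgroup.inclusion le_sup_right (⟨b, hb⟩ : B))).trans ?_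
      rw [map_mul, hψx, hψB]
      rfl
    set v : Ω := ((β ⟨u, Subgroup.mem_sup_right hu⟩ : ↥(H ⊔ centralizerIn A H)) : Ω)
    change u⁻¹ * v ∈ _ at hz
    have e2 : (c : Ω)⁻¹ * f c = u⁻¹ * v := by
      rw [e, hcub, mul_inv_rev, mul_assoc, ← mul_assoc u⁻¹, hs.comm _ (hHA hz.1) b hb,
        inv_mul_cancel_left]
    rwa [e2]
  haveI := finite_of_le (sup_le hHS (centralizerIn_le S H))
  obtain ⟨γ, hγ, hγx⟩ := exists_aut_of_hom' F (restrict_mem hψ hle) (apply_mem_of_sup f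
    (fun x => by rw [hfH]; exact Subgroup.mem_sup_left (a x).2)
    (fun c => by
      have := Subgroup.mul_mem (H ⊔ centralizerIn S H) (Subgroup.mem_sup_right c.2)
        (Subgroup.mem_sup_left (hfC (Subgroup.inclusion le_sup_right c) c.2).1)
      rwa [show ((Subgroup.inclusion le_sup_right c : ↥(H ⊔ centralizerIn S H)) : Ω) = (c : Ω) from rfl,
        mul_inv_cancel_left] at this))
  exact ⟨γ, hγ, fun x => (hγx _).trans (hfH x), fun c hc => (hγx c).symm ▸ hfC c hc⟩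

/-- A central product normal in the system and containing it is the whole system. -/
theorem centralProduct_of_le [Finite S] {F : FusionSystem S} {E₁ : FusionSystem A}
    {E₂ : FusionSystem B} {D : FusionSystem T} (hD : D.IsNormalIn F p) (h : F.IsSubsystemOf D)
    (hc : IsCentralProductOf E₁ E₂ D) : IsCentralProductOf E₁ E₂ F := by
  obtain rfl := le_antisymm hD.1.2.2.2.1.1 (subsystem_le h)
  exact system_eq_of_subsystem hD.1.2.2.1 h ▸ hc

theorem component_normal_aux : ∀ (n : ℕ) (S : Subgroup Ω) [Finite S] (F : FusionSystem S),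
    IsPGroup p S → F.IsSaturated p → (homs F).ncard = n →
    (∀ (R : Subgroup Ω) (M : FusionSystem R), M.IsNormalIn F p →
      (∀ (V : Subgroup Ω) (C : FusionSystem V), C.IsComponentIn F p → C.IsSubsystemOf M) →
        F.IsSubsystemOf M) →
    ∀ (U : Subgroup Ω) (C : FusionSystem U), C.IsComponentIn F p → C.IsNormalIn F p := by
  intro n
  induction n using Nat.strong_induction_on with
  | _ n ih =>
  intro S _ F hS hF hn hfull U C hC
  classical
  rcases component_cases hC.1 hC.2 with ⟨rfl, hqF⟩ | ⟨T₁, D₁, hD₁, hUT₁, hlt⟩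
  · obtain rfl : C = F := component_eq hS ⟨.refl F p, hqF⟩ hC
    exact Layer.isNormalIn_self hF
  -- the least normal subsystem containing `C`
  have hex : ∃ n, ∃ (T : Subgroup Ω) (D : FusionSystem T),
      D.IsNormalIn F p ∧ U ≤ T ∧ (homs D).ncard = n := ⟨_, T₁, D₁, hD₁, hUT₁, rfl⟩
  obtain ⟨T, D, hD, hUT, hDn⟩ := Nat.find_spec hex
  have hTS := hD.1.2.2.2.1.1
  haveI := finite_of_le hTS
  have hTp := isPGroup_of_le hS hTS
  have least : ∀ (T' : Subgroup Ω) (D' : FusionSystem T'), D'.IsNormalIn F p → U ≤ T' →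
      D.IsSubsystemOf D' := by
    intro T' D' hD' hUT'
    obtain ⟨M, ⟨hM, hM₁, hM₂⟩, -⟩ := Meet.exists_meet hS hF hD hD'
    have hsub : homs M ⊆ homs D := fun x hx => hM₁.1.2.2.1 x.1 hx
    have h := Nat.find_min' hex ⟨_, M, hM, le_inf hUT hUT', rfl⟩
    rw [← hDn] at h
    have heq := Set.eq_of_subset_of_ncard_le hsub h (homs_finite D)
    intro P φ hφ
    exact hM₂.1.2.2.1 P
      (Set.ext_iff.mp heq (⟨P, φ⟩ : Σ P : Subgroup Ω, (P →* Ω)) |>.mpr hφ)
  have hDlt : homs D ⊂ homs F := lt_of_le_of_lt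
    (show homs D ≤ homs D₁ from fun x hx => least T₁ D₁ hD₁ hUT₁ x.1 hx) hlt
  -- the centralizer of `D`
  set R := Subgroup.closure (fixedElts F D) with hR
  have hRC : R ≤ centralizerIn S T := (Subgroup.closure_le _).mpr fun y hy => hy.1
  obtain ⟨D₂, hD₂, -⟩ := Reduction.exists_centralizer_normal hS hD hRC hR
  haveI := finite_of_le (hRC.trans (centralizerIn_le S T))
  have hcomm : ∀ a ∈ T, ∀ b ∈ R, a * b = b * a := fun a ha b hb => (hRC hb).2 a ha
  have hZ : F.StronglyClosed (T ⊓ R) := stronglyClosed_inf hD.1.2.2.2.1 hD₂.1.2.2.2.1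
  have hc₁ : ∀ t ∈ T, ∀ z ∈ T ⊓ R, t * z = z * t := fun t ht z hz => hcomm t ht z hz.2
  have hc₂ : ∀ r ∈ R, ∀ z ∈ T ⊓ R, r * z = z * r := fun r hr z hz => (hcomm z hz.1 r hr).symm
  have hfix₁ := fixSystem_isNormalIn hS hD hZ inf_le_left hc₁
  have hfix₂ := fixSystem_isNormalIn hS hD₂ hZ inf_le_right hc₂
  obtain ⟨M, hM, hMc⟩ := exists_product hS hF hD hfix₂ hcomm
    (fun P φ hφ => (least _ _ hfix₁ hUT P hφ).2) (fun P φ hφ => by
      obtain ⟨-, ψ, hψ, hx, hz⟩ := hφ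
      exact ⟨ψ, fixSystem_self hψ hz, hx, hz⟩)
  have hMF := centralProduct_of_le hM (h := hfull _ M hM fun V C' hC' => by
    refine Layer.component_le hC'.1 hC'.2 hS hM ?_
    rcases component_dichotomy hS hC' hD with h | h
    · exact h.trans le_sup_left
    · exact le_trans (fun x hx => Subgroup.subset_closure (h hx)) le_sup_right) hMc
  -- `D` is a factor
  have hE₂F : (fixSystem D₂ (T ⊓ R) inf_le_right hc₂).IsSubsystemOf F := fun P φ hφ =>
    hD₂.1.2.2.1 P hφ.1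
  obtain ⟨hs, hsD, -⟩ := Cfsg.Agent.S5162.split_of_central hD.1.2.2.1 hE₂F hMF
  have hCD := component_descend hS hC hD hUT
  obtain ⟨V, L, hL⟩ := Layer.exists_layer hTp hD.1.1
  have hDL : D.IsSubsystemOf L := least V L (layer_isNormalIn hS hD hL)
    (subsystem_le (hL.2.1 U C hCD))
  have hCn : C.IsNormalIn D p := ih _ (hn ▸ Set.ncard_lt_ncard hDlt (homs_finite F)) T D hTp hD.1.1
    rfl (fun R' M' hM' hc P φ hφ => hL.2.2 R' M' hM' hc P (hDL P hφ)) U C hCD
  exact isNormalIn_of_left hF hs (hsD.symm ▸ hCn)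

/-- Components are normal in the layer. -/
theorem component_isNormalIn_layer [Finite S] (hS : IsPGroup p S) {F : FusionSystem S}
    {E : FusionSystem T} (hE : E.IsLayerOf F p) {C : FusionSystem U} (hC : C.IsComponentIn F p) :
    C.IsNormalIn E p := by
  have hTS := hE.1.1.2.2.2.1.1
  haveI := finite_of_le hTS
  have hTp := isPGroup_of_le hS hTS
  have hdesc : ∀ (V : Subgroup Ω) (C : FusionSystem V), C.IsComponentIn F p →
      C.IsComponentIn E p := fun V C hC =>
    component_descend hS hC hE.1 (subsystem_le (hE.2.1 V C hC))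
  obtain ⟨V, L, hL⟩ := Layer.exists_layer hTp hE.1.1.1
  have hEL : E.IsSubsystemOf L :=
    hE.2.2 V L (layer_isNormalIn hS hE.1 hL) fun V C hC => hL.2.1 V C (hdesc V C hC)
  exact component_normal_aux _ T E hTp hE.1.1.1 rfl
    (fun R M hM hc P φ hφ => hL.2.2 R M hM hc P (hEL P hφ)) U C (hdesc U C hC)

end CfsgLib.FusionFitting
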