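import Cfsg.Agent.Lib.FusionBasics.Layer
import Cfsg.Agent.Lib.FusionBasics.Central.Product
import Cfsg.Agent.Lib.FusionSub.CoreCentralizerSystem
import Cfsg.Agent.S5150
import Cfsg.Prelude.Def_FusionFitting

/-!
The generalized Fitting subsystem exists, is unique and is normal.
-/

set_option autoImplicit false
set_option linter.style.haveILetI false
set_option linter.unusedSectionVars false

namespace CfsgLib.FusionFitting

open Cfsg Cfsg.FusionSystem CfsgLib.Alperin CfsgLib.Alperin.NormalLift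
open CfsgLib.FusionBasics CfsgLib.FusionSub

universe u

variable {Ω : Type u} [Group Ω] {S T : Subgroup Ω} {p : ℕ} [Fact p.Prime]

/-- Two layers coincide. -/
theorem layer_unique {F : FusionSystem S} {T' : Subgroup Ω} {E : FusionSystem T}
    {E' : FusionSystem T'} (h : E.IsLayerOf F p) (h' : E'.IsLayerOf F p) :
    ∃ e : T = T', e ▸ E = E' := by
  have h₁ := h.2.2 T' E' h'.1 h'.2.1
  have h₂ := h'.2.2 T E h.1 h.2.1
  obtain rfl := le_antisymm (subsystem_le h₁) (subsystem_le h₂)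
  exact ⟨rfl, system_eq_of_subsystem h₁ h₂⟩

/-- Two central products of the same factors have the same subgroup and the same maps. -/
theorem centralProduct_unique {T₁ T₂ U U' : Subgroup Ω} {E₁ : FusionSystem T₁}
    {E₂ : FusionSystem T₂} {D : FusionSystem U} {D' : FusionSystem U'}
    (h : IsCentralProductOf E₁ E₂ D) (h' : IsCentralProductOf E₁ E₂ D') :
    U = U' ∧ ∀ P : Subgroup Ω, D.Hom P = D'.Hom P := by
  obtain ⟨D₀, hP₀, Z, θ, -, -, -, h1, h2, hZle, hker, hrange, hmem⟩ := h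
  obtain ⟨D₀', hP₀', Z', θ', -, -, -, h1', h2', -, -, hrange', hmem'⟩ := h'
  have hD₀ : D₀ = D₀' := system_ext fun P => Set.ext fun φ => (hP₀ P φ).trans (hP₀' P φ).symm
  subst hD₀
  have hθ : θ = θ' := by
    refine MonoidHom.ext fun w => ?_
    have e1 : ((((w : Ω × Ω).1, 1) : Ω × Ω)) ∈ T₁.prod T₂ := ⟨w.2.1, T₂.one_mem⟩
    have e2 : ((1, (w : Ω × Ω).2) : Ω × Ω) ∈ T₁.prod T₂ := ⟨T₁.one_mem, w.2.2⟩
    rw [show w = ⟨_, e1⟩ * ⟨_, e2⟩ from Subtype.ext (by simp), map_mul, map_mul, h1, h2, h1', h2']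
  subst hθ
  obtain rfl : U = U' := hrange.symm.trans hrange'
  exact ⟨rfl, fun P => Set.ext fun φ => (hmem P φ).trans (hmem' P φ).symm⟩

/-- A normal subgroup and the layer have a central product, normal in the system. -/
theorem exists_fitting [Finite S] (hS : IsPGroup p S) {F : FusionSystem S} (hF : F.IsSaturated p)
    {E : FusionSystem T} (hE : E.IsLayerOf F p) :
    ∃ D : FusionSystem (F.core ⊔ T), D.IsNormalIn F p ∧
      IsCentralProductOf (innerFusionSystem F.core) E D := by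
  have hQ : F.IsNormal F.core := CfsgLib.FusionExamples.isNormal_core F
  set Q := F.core
  have hTS := hE.1.1.2.2.2.1.1
  haveI := finite_of_le hTS
  haveI := finite_of_le hQ.1
  have hcomm : ∀ a ∈ Q, ∀ b ∈ T, a * b = b * a := fun a ha b hb =>
    ((Cfsg.Agent.S5150.result p hS F hF E hE T (incl_mem E le_rfl)).2.1 hb).2 a ha
  have hI := CoreComponent.inner_isNormalIn hS hF hQ
  have hZ : F.StronglyClosed (Q ⊓ T) :=
    stronglyClosed_inf hI.1.2.2.2.1 hE.1.1.2.2.2.1
  have hc : ∀ t ∈ T, ∀ z ∈ Q ⊓ T, t * z = z * t := fun t ht z hz => (hcomm z hz.1 t ht).symm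
  have hfix := Central.fixSystem_isNormalIn hS hE.1 hZ inf_le_right hc
  have hsub : E.IsSubsystemOf (Central.fixSystem E (Q ⊓ T) inf_le_right hc) :=
    hE.2.2 _ _ hfix fun V C hC =>
      Layer.component_le hC.1 hC.2 hS hfix (subsystem_le (hE.2.1 V C hC))
  refine Central.exists_product hS hF hI hE.1 hcomm (fun P φ hφ => ?_) fun P φ hφ =>
    (hsub P hφ).2
  obtain ⟨hP, g, hg, hgx⟩ := hφ
  refine ⟨conjHom _ g, (innerFusionSystem Q).conj_mem (sup_le hP inf_le_left) hg,
    fun x => (hgx x).symm, fun z => ?_⟩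
  show g * (z : Ω) * g⁻¹ = z
  rw [hcomm g hg z z.2.2, mul_inv_cancel_right]

/-- The generalized Fitting subsystem exists and every one is normal. -/
theorem exists_and_isNormalIn [Finite S] (hS : IsPGroup p S) {F : FusionSystem S}
    (hF : F.IsSaturated p) :
    (∃ (U : Subgroup Ω) (D : FusionSystem U), D.IsGeneralizedFittingOf F p) ∧
      ∀ (U : Subgroup Ω) (D : FusionSystem U), D.IsGeneralizedFittingOf F p →
        D.IsNormalIn F p := by
  obtain ⟨T, E, hE⟩ := Layer.exists_layer hS hF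
  obtain ⟨D₁, hD₁, hD₁c⟩ := exists_fitting hS hF hE
  refine ⟨⟨_, D₁, T, E, hE, hD₁c⟩, fun U D hD => ?_⟩
  obtain ⟨T', E', hE', hDc⟩ := hD
  obtain ⟨rfl, heq⟩ := layer_unique hE hE'
  subst heq
  obtain ⟨rfl, hhom⟩ := centralProduct_unique hD₁c hDc
  exact system_ext hhom ▸ hD₁

end CfsgLib.FusionFitting
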