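import Cfsg.Agent.Lib.FusionFitting.Centralizes

/-!
A normal subsystem of a normal subsystem `D` which is invariant under the automorphisms of the
subgroup of `D` in the ambient system is normal in the ambient system.
-/

set_option autoImplicit false
set_option linter.style.haveILetI false
set_option linter.unusedSectionVars false

namespace CfsgLib.FusionFitting

open Cfsg Cfsg.FusionSystem CfsgLib.Alperin CfsgLib.Alperin.NormalLift CfsgLib.FusionSub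
open CfsgLib.FusionBasics

universe u

variable {Ω : Type u} [Group Ω] {S T V : Subgroup Ω} {p : ℕ} [Fact p.Prime]
  {F : FusionSystem S} {D : FusionSystem T} {L : FusionSystem V}

/-- `L` is carried into itself by the automorphisms of `T` in `F`. -/
def InvUnder (L : FusionSystem V) (F : FusionSystem S) (T : Subgroup Ω) : Prop :=
  ∀ α ∈ F.autGroup T, ∀ (P : Subgroup Ω) (hPT : P ≤ T) (φ : P →* Ω), φ ∈ L.Hom P →
    ∃ χ ∈ L.Hom ((P.subgroupOf T).map (T.subtype.comp α.toMonoidHom)),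
      ∀ (x : P) (hφx : φ x ∈ T)
        (hαx : ((α ⟨x, hPT x.2⟩ : T) : Ω) ∈ (P.subgroupOf T).map (T.subtype.comp α.toMonoidHom)),
        χ ⟨(α ⟨x, hPT x.2⟩ : T), hαx⟩ = ((α ⟨φ x, hφx⟩ : T) : Ω)

theorem InvUnder.apply_mem (h : InvUnder L F T) (hVT : V ≤ T) {α : MulAut T}
    (hα : α ∈ F.autGroup T) (x : T) (hx : (x : Ω) ∈ V) : ((α x : T) : Ω) ∈ V := by
  obtain ⟨χ, hχ, -⟩ := h α hα V hVT _ (incl_mem L le_rfl)
  exact dom_le hχ ⟨x, hx, rfl⟩

theorem invariant_of_invUnder (hD : D.IsNormalIn F p) (hL : L.IsNormalIn D p)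
    (hinv : InvUnder L F T) [Finite S] : L.IsInvariantIn F := by
  obtain ⟨⟨-, -, hDF, hTc, -, hDfrat⟩, -⟩ := hD
  obtain ⟨⟨-, -, hLD, hVc, hLinv, hLfrat⟩, -⟩ := hL
  have hVT := hVc.1
  have hTS := hTc.1
  have hVS := hVT.trans hTS
  haveI := finite_of_le hVS
  refine ⟨fun P φ hφ => hDF P (hLD P hφ), ⟨hVS, fun P hP φ hφ x => ?_⟩,
    fun P hPV φ hφ a ha => ?_, fun P hPV φ hφ => ?_⟩
  · obtain ⟨α, hα, φ₀, hφ₀, hx⟩ := hDfrat P (hP.trans hVT) φ hφ
    rw [hx x (CfsgLib.Alperin.apply_mem hφ₀ x)]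
    exact hinv.apply_mem hVT hα _ (hVc.2 P hP φ₀ hφ₀ x)
  · obtain ⟨α, hα, φ₀, hφ₀, hx⟩ := hDfrat V hVT _ ((mem_autGroup_iff F hVS).mp ha)
    obtain ⟨a₀, ha₀, ha₀x⟩ := exists_aut_of_hom' D hφ₀ (fun x => hVc.2 V le_rfl φ₀ hφ₀ x)
    have hax : ∀ (x : V) (h : ((a₀ x : V) : Ω) ∈ T),
        ((a x : V) : Ω) = ((α ⟨(a₀ x : V), h⟩ : T) : Ω) := fun x h =>
      (hx x (CfsgLib.Alperin.apply_mem hφ₀ x)).trans
        (congrArg (fun z : T => ((α z : T) : Ω)) (Subtype.ext (ha₀x x).symm))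
    set P₀ := (P.subgroupOf V).map (V.subtype.comp a₀.toMonoidHom) with hP₀
    obtain ⟨χ₀, hχ₀, hχ₀x⟩ : ∃ χ₀ ∈ L.Hom P₀, ∀ (x : P) (hφx : φ x ∈ V)
        (h : ((a₀ ⟨x, hPV x.2⟩ : V) : Ω) ∈ P₀),
        χ₀ ⟨(a₀ ⟨x, hPV x.2⟩ : V), h⟩ = ((a₀ ⟨φ x, hφx⟩ : V) : Ω) := hLinv P hPV φ hφ a₀ ha₀
    have hP₀T : P₀ ≤ T := (dom_le hχ₀).trans hVT
    obtain ⟨χ₁, hχ₁, hχ₁x⟩ := hinv α hα P₀ hP₀T χ₀ hχ₀
    have hle : (P.subgroupOf V).map (V.subtype.comp a.toMonoidHom) ≤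
        (P₀.subgroupOf T).map (T.subtype.comp α.toMonoidHom) := by
      rintro _ ⟨x, hxP, rfl⟩
      exact ⟨⟨(a₀ x : V), hVT (a₀ x).2⟩, ⟨x, hxP, rfl⟩, (hax x _).symm⟩
    refine ⟨_, restrict_mem hχ₁ hle, fun x hφx hαx => ?_⟩
    have hm : ((a₀ ⟨x, hPV x.2⟩ : V) : Ω) ∈ P₀ := ⟨⟨x, hPV x.2⟩, x.2, rfl⟩
    have e0 : χ₀ ⟨_, hm⟩ = ((a₀ ⟨φ x, hφx⟩ : V) : Ω) := hχ₀x x hφx hm
    have hT' : χ₀ ⟨_, hm⟩ ∈ T := hVT (CfsgLib.Alperin.apply_mem hχ₀ _)
    have hm1 : ((α ⟨_, hP₀T hm⟩ : T) : Ω) ∈ (P₀.subgroupOf T).map (T.subtype.comp α.toMonoidHom) :=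
      ⟨⟨_, hP₀T hm⟩, hm, rfl⟩
    refine ((congrArg χ₁ (Subtype.ext (hax ⟨x, hPV x.2⟩ (hP₀T hm)))).trans
      (hχ₁x ⟨_, hm⟩ hT' hm1)).trans ?_
    exact (congrArg (fun z : T => ((α z : T) : Ω)) (Subtype.ext e0)).trans
      (hax ⟨φ x, hφx⟩ (hVT (a₀ _).2)).symm
  · obtain ⟨α, hα, φ₀, hφ₀, hx⟩ := hDfrat P (hPV.trans hVT) φ hφ
    obtain ⟨a₀, ha₀, φ₁, hφ₁, hx₁⟩ := hLfrat P hPV φ₀ hφ₀
    have h1 : V.subtype.comp a₀.toMonoidHom ∈ F.Hom V :=
      hDF V ((mem_autGroup_iff D hVT).mp ha₀)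
    have h2 := restrict_mem ((mem_autGroup_iff F hTS).mp hα) hVT
    obtain ⟨a, ha, hax⟩ := exists_aut_of_hom' F (F.comp_mem h1 h2 fun x => (a₀ x).2)
      (fun x => hinv.apply_mem hVT hα _ (a₀ x).2)
    refine ⟨a, ha, φ₁, hφ₁, fun x hxV => ?_⟩
    rw [hax, hx x (CfsgLib.Alperin.apply_mem hφ₀ x)]
    exact congrArg (fun z : T => ((α z : T) : Ω)) (Subtype.ext (hx₁ x hxV))

/-- The automorphisms of `W` fixing `V` and acting trivially modulo `Z`. -/
def fixStab (W V Z : Subgroup Ω) : Subgroup (MulAut W) :=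
  chainStab W Z ⊓
    { carrier := {a | ∀ x : W, (x : Ω) ∈ V → a x = x}
      one_mem' := fun _ _ => rfl
      mul_mem' := fun {a b} ha hb x hx => by rw [MulAut.mul_apply, hb x hx, ha x hx]
      inv_mem' := fun {a} ha x hx => by
        conv_lhs => rw [← ha x hx]
        exact MulAut.inv_apply_self _ a x }

/-- An automorphism of order prime to `p` extending to `V C_T(V)` trivially modulo `Z(V)` does so
to `V C_S(V)`. -/
theorem exists_ext_of_coprime [Finite S] (hS : IsPGroup p S) (hD : D.IsNormalIn F p)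
    (hVc : F.StronglyClosed V) (hVT : V ≤ T) {a : MulAut V} (hac : (orderOf a).Coprime p)
    {W : Subgroup Ω} (hW : W = V ⊔ centralizerIn T V) {β : MulAut W} (hβ : β ∈ D.autGroup W)
    (hβV : ∀ (x : V) (h : (x : Ω) ∈ W), ((β ⟨x, h⟩ : W) : Ω) = ((a x : V) : Ω))
    (hβC : ∀ c : W, (c : Ω) ∈ centralizerIn T V →
      (c : Ω)⁻¹ * ((β c : W) : Ω) ∈ V ⊓ Subgroup.centralizer (V : Set Ω)) :
    ∃ ε ∈ F.autGroup (V ⊔ centralizerIn S V),
      (∀ x : V, ((ε (Subgroup.inclusion le_sup_left x) : ↥(V ⊔ centralizerIn S V)) : Ω) =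
        ((a x : V) : Ω)) ∧
      ∀ c : ↥(V ⊔ centralizerIn S V), (c : Ω) ∈ centralizerIn S V →
        (c : Ω)⁻¹ * ((ε c : ↥(V ⊔ centralizerIn S V)) : Ω) ∈
          V ⊓ Subgroup.centralizer (V : Set Ω) := by
  classical
  set CT := centralizerIn T V
  have hCW : CT ≤ W := hW.ge.trans' le_sup_right
  set CS := centralizerIn S V
  set X := V ⊔ CS with hXdef
  set Z := V ⊓ Subgroup.centralizer (V : Set Ω) with hZdef
  have hTc := hD.1.2.2.2.1
  have hTS : T ≤ S := hTc.1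
  have hVS := hVT.trans hTS
  have hWT : W ≤ T := hW.le.trans (sup_le hVT (centralizerIn_le T V))
  have hWS := hWT.trans hTS
  have hXS : X ≤ S := sup_le hVS (centralizerIn_le S V)
  haveI := finite_of_le hVS
  haveI := finite_of_le hWS
  haveI := finite_of_le hXS
  have hcommW : ∀ v ∈ V, ∀ y ∈ CT, v * y = y * v := fun v hv y hy => hy.2 v hv
  -- `S` normalizes `W`
  have hSW : S ≤ Subgroup.normalizer (W : Set Ω) := fun s hs => by
    refine Subgroup.mem_normalizer_fintype (S := (W : Set Ω)) fun x hx => ?_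
    obtain ⟨v, hv, y, hy, rfl⟩ := exists_mul_of_le_sup hcommW (hW.le hx)
    rw [show s * (v * y) * s⁻¹ = (s * v * s⁻¹) * (s * y * s⁻¹) by group]
    refine W.mul_mem (hW.ge (Subgroup.mem_sup_left (stronglyClosed_conj hVc hs hv)))
      (hCW ⟨stronglyClosed_conj hTc hs hy.1, fun u hu => ?_⟩)
    have h1 := hy.2 _ (by simpa using stronglyClosed_conj hVc (S.inv_mem hs) hu :
      s⁻¹ * u * s ∈ (V : Set Ω))
    calc u * (s * y * s⁻¹) = s * ((s⁻¹ * u * s) * y) * s⁻¹ := by group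
      _ = s * (y * (s⁻¹ * u * s)) * s⁻¹ := by rw [h1]
      _ = s * y * s⁻¹ * u := by group
  -- the product system
  have c : CfsgLib.FusionProduct.Ctx F D p S := ⟨⟨hS, hD.1.2.1, hD⟩, hTS, le_rfl⟩
  set G := CfsgLib.FusionProduct.dSys c with hGdef
  have hG : G.IsSaturated p := CfsgLib.FusionProduct.dSys_isSaturated c
  have hGF : G.IsSubsystemOf F := CfsgLib.FusionProduct.dSys_le_F c
  have hhyp : G.hyperfocalSubgroup p ≤ T := CfsgLib.FusionProduct.dSys_hyperfocal_le c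
  have hβG : β ∈ G.autGroup W := (mem_autGroup_iff G hWS).mpr
    (CfsgLib.FusionProduct.le_dSys c W ((mem_autGroup_iff D hWT).mp hβ))
  haveI := finite_of_le (normalizerIn_le S W)
  have hWn : G.IsFullyNormalized W := ⟨hWS, fun Q hQ => (Subgroup.card_le_of_le
    (normalizerIn_le S Q)).trans <|
    Subgroup.card_le_of_le fun g hg => (⟨hg, hSW hg⟩ : g ∈ normalizerIn S W)⟩
  have hVW : V ≤ W := hW.ge.trans' le_sup_left
  have hclV : ∀ g ∈ G.autGroup W, ∀ x : W, (x : Ω) ∈ V → ((g x : W) : Ω) ∈ V := fun g hg x hx =>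
    stronglyClosed_apply hVc (hGF W ((mem_autGroup_iff G hWS).mp hg)) x hx
  have hclC : ∀ g ∈ G.autGroup W, ∀ x : W, (x : Ω) ∈ Subgroup.centralizer (V : Set Ω) →
      ((g x : W) : Ω) ∈ Subgroup.centralizer (V : Set Ω) := by
    intro g hg x hx v hv
    have hv' := hclV g⁻¹ (inv_mem hg) ⟨v, hVW hv⟩ hv
    have h := congrArg (fun z : W => ((g z : W) : Ω))
      (Subtype.ext (hx _ hv') : g⁻¹ ⟨v, hVW hv⟩ * x = x * g⁻¹ ⟨v, hVW hv⟩)
    simpa using h
  have hclZ : ∀ g ∈ G.autGroup W, ∀ x : W, (x : Ω) ∈ Z → ((g x : W) : Ω) ∈ Z := fun g hg x hx =>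
    ⟨hclV g hg x hx.1, hclC g hg x hx.2⟩
  -- the stabilizer of the chain is induced by `S`
  set M := fixStab W V Z with hM
  have hMS : ∀ m ∈ G.autGroup W, m ∈ M → m ∈ autInducedBy S W := by
    intro m hm hmM
    haveI := finite_autGroup G hWS
    obtain ⟨-, R, hR⟩ := (centralized_automized_of_fullyNormalized hS hG hWn).2
    haveI : (M.subgroupOf (G.autGroup W)).Normal := by
      refine ⟨fun x hx g => ?_⟩
      rw [Subgroup.mem_subgroupOf] at hx ⊢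
      obtain ⟨hxZ, hxV⟩ := hx
      have hfix : ∀ y : W, (y : Ω) ∈ V →
          ((g * x * g⁻¹ : G.autGroup W) : MulAut W) y = y := fun y hy => by
        show (g : MulAut W) ((x : MulAut W) ((g : MulAut W)⁻¹ y)) = y
        rw [hxV _ (hclV _ (inv_mem g.2) y hy), MulAut.apply_inv_self]
      refine ⟨fun y => ⟨?_, fun hy => hfix y hy.1⟩, hfix⟩
      show (y : Ω)⁻¹ * (((g : MulAut W) ((x : MulAut W) ((g : MulAut W)⁻¹ y)) : W) : Ω) ∈ Z
      set u := (g : MulAut W)⁻¹ y with hu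
      have huy : (g : MulAut W) u = y := MulAut.apply_inv_self _ _ _
      have h := hclZ _ g.2 (u⁻¹ * (x : MulAut W) u) (hxZ u).1
      rwa [map_mul, map_inv, huy] at h
    have hMp : IsPGroup p (M.subgroupOf (G.autGroup W)) := by
      intro z
      obtain ⟨k, hk⟩ := isPGroup_chainStab (Z := Z) (isPGroup_of_le hS hWS)
        ⟨(z : G.autGroup W), (Subgroup.mem_subgroupOf.mp z.2).1⟩
      exact ⟨k, Subtype.ext (Subtype.ext (congrArg Subtype.val hk :))⟩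
    have := (IsPGroup.le_sylow_of_normal hMp R) (x := ⟨m, hm⟩) (Subgroup.mem_subgroupOf.mpr hmM)
    rwa [hR, Subgroup.mem_subgroupOf] at this
  -- `C_S(V)` lies in the extender
  set φ : W →* Ω := W.subtype.comp β.toMonoidHom with hφdef
  have hφG : φ ∈ G.Hom W := (mem_autGroup_iff G hWS).mp hβG
  have hφr : φ.range = W := le_antisymm (by rintro _ ⟨x, rfl⟩; exact (β x).2) fun y hy =>
    ⟨β.symm ⟨y, hy⟩, congrArg Subtype.val (β.apply_symm_apply ⟨y, hy⟩)⟩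
  have hext : X ≤ extender S W φ := by
    refine sup_le (hVW.trans (le_extender hφG)) fun g hg => ?_
    have hgN := hSW hg.1
    set cg := conjAut W g hgN with hcg
    have hcgG : cg ∈ G.autGroup W := autInducedBy_le_autGroup G hWS (conjAut_mem hg.1 hgN)
    have hcgV : ∀ x : W, (x : Ω) ∈ V → cg x = x := fun x hx => Subtype.ext (by
      show g * (x : Ω) * g⁻¹ = x
      rw [← hg.2 _ hx, mul_inv_cancel_right])
    set m := β * cg * β⁻¹ * cg⁻¹ with hm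
    have hmG : m ∈ G.autGroup W :=
      mul_mem (mul_mem (mul_mem hβG hcgG) (inv_mem hβG)) (inv_mem hcgG)
    have hmV : ∀ x : W, (x : Ω) ∈ V → m x = x := by
      intro x hx
      show β (cg (β⁻¹ (cg⁻¹ x))) = x
      have h1 : cg⁻¹ x = x := by
        conv_lhs => rw [← hcgV x hx]
        exact MulAut.inv_apply_self _ cg x
      rw [h1, hcgV _ (hclV _ (inv_mem hβG) x hx), MulAut.apply_inv_self]
    have hmC : ∀ y : W, (y : Ω) ∈ CT → (y : Ω)⁻¹ * ((m y : W) : Ω) ∈ Z := by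
      intro y hy
      set w := β⁻¹ (cg⁻¹ y) with hw
      have hwC : (w : Ω) ∈ CT := ⟨hWT w.2,
        hclC _ (inv_mem hβG) _ (hclC _ (inv_mem hcgG) y hy.2)⟩
      have hcw : ((cg w : W) : Ω) ∈ CT := ⟨hWT (cg w).2, hclC _ hcgG w hwC.2⟩
      set z₁ : W := w⁻¹ * β w with hz₁
      have hz₁Z : (z₁ : Ω) ∈ Z := hβC w hwC
      have hy' : y = cg w * z₁ := by
        calc y = cg (cg⁻¹ y) := (MulAut.apply_inv_self _ _ _).symm
          _ = cg (w * z₁) := by rw [hz₁, mul_inv_cancel_left, hw, MulAut.apply_inv_self,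
            MulAut.apply_inv_self, MulAut.apply_inv_self]
          _ = _ := by rw [map_mul, hcgV z₁ hz₁Z.1]
      have h2 : y⁻¹ * m y = z₁⁻¹ * ((cg w)⁻¹ * β (cg w)) := by
        show y⁻¹ * β (cg w) = _
        rw [hy', mul_inv_rev, mul_assoc]
      have := Z.mul_mem (Z.inv_mem hz₁Z) (hβC _ hcw)
      have e : (y : Ω)⁻¹ * ((m y : W) : Ω) = ((y⁻¹ * m y : W) : Ω) := rfl
      rw [e, h2]
      exact this
    have hmM : m ∈ M := by
      refine ⟨fun x => ⟨?_, fun hx => hmV x hx.1⟩, hmV⟩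
      obtain ⟨v, hv, y, hy, hxy⟩ := exists_mul_of_le_sup hcommW (hW.le x.2)
      have ex : x = ⟨v, hVW hv⟩ * ⟨y, hCW hy⟩ := Subtype.ext hxy
      have h := hmC ⟨y, hCW hy⟩ hy
      rw [ex, map_mul, hmV ⟨v, _⟩ hv]
      simpa [mul_assoc] using h
    have hind : m * cg ∈ autInducedBy S W :=
      mul_mem (hMS m hmG hmM) (conjAut_mem hg.1 hgN)
    obtain ⟨h, hhS, hhx⟩ := mem_autInducedBy_iff.mp hind
    refine mem_extender_iff.mpr ⟨hg.1, hgN, h, hhS, fun x hx => ?_⟩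
    refine Eq.trans ?_ (hhx (β x))
    show ((β ⟨g * x * g⁻¹, hx⟩ : W) : Ω) = (((β * cg * β⁻¹ * cg⁻¹ * cg) (β x) : W) : Ω)
    rw [inv_mul_cancel_right, MulAut.mul_apply, MulAut.mul_apply, MulAut.inv_apply_self]
    rfl
  obtain ⟨ψ₀, hψ₀, hψ₀x⟩ := (receptive_of_fullyNormalized hS hG hWn).2 W φ hφG hφr
  set ψ := ψ₀.comp (Subgroup.inclusion hext) with hψdef
  have hψG : ψ ∈ G.Hom X := restrict_mem hψ₀ hext
  have hψW : ∀ (x : W) (hx : (x : Ω) ∈ X), ψ ⟨x, hx⟩ = ((β x : W) : Ω) := fun x hx =>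
    hψ₀x x x.2 (hext hx)
  have hψV : ∀ x : V, ψ (Subgroup.inclusion le_sup_left x) = ((a x : V) : Ω) := fun x =>
    (hψW ⟨x, hVW x.2⟩ (Subgroup.mem_sup_left x.2)).trans (hβV x _)
  have hψC : ∀ x : CS, ψ (Subgroup.inclusion le_sup_right x) ∈ CS := fun x =>
    ⟨CfsgLib.Alperin.apply_mem hψG _, fun v hv => by
      obtain ⟨u, hu⟩ := a.surjective ⟨v, hv⟩
      have hu' : ((a u : V) : Ω) = v := congrArg Subtype.val hu
      rw [← hu', ← hψV, ← map_mul, ← map_mul]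
      exact congrArg ψ (Subtype.ext (x.2.2 u u.2))⟩
  obtain ⟨b, hb, hbx⟩ := exists_aut_of_hom' G hψG (apply_mem_of_sup ψ
    (fun x => Subgroup.mem_sup_left (by rw [hψV]; exact (a x).2))
    (fun x => Subgroup.mem_sup_right (hψC x)))
  have hbV : ∀ x : V, b (Subgroup.inclusion le_sup_left x) = Subgroup.inclusion le_sup_left (a x) :=
    fun x => Subtype.ext ((hbx _).trans (hψV x))
  have hbC : ∀ x : X, (x : Ω) ∈ CS → ((b x : X) : Ω) ∈ CS := fun x hx => by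
    rw [hbx]
    exact hψC ⟨x, hx⟩
  have hbZ : ∀ x : X, (x : Ω) ∈ Z → ((b x : X) : Ω) ∈ Z := fun x hx => by
    have h := hbV ⟨x, hx.1⟩
    refine ⟨?_, (hbC x ⟨hVS hx.1, hx.2⟩).2⟩
    rw [show x = Subgroup.inclusion le_sup_left (⟨x, hx.1⟩ : V) from rfl, h]
    exact (a _).2
  have hbCT : ∀ x : X, (x : Ω) ∈ CT → (x : Ω)⁻¹ * ((b x : X) : Ω) ∈ Z := fun x hx => by
    have h := hβC ⟨x, hCW hx⟩ hx
    rwa [← hψW ⟨x, hCW hx⟩ x.2, ← hbx] at h
  -- a power of order prime to `p`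
  haveI := finite_mulAut (P := X)
  haveI := finite_mulAut (P := V)
  obtain ⟨k, m, hkm, hm⟩ := CfsgLib.FusionExamples.exists_coprime_power (p := p) b
  obtain ⟨i, hi⟩ := exists_pow_eq_self_of_coprime (x := a) (n := p ^ k) (hac.symm.pow_left k)
  have hpV : ∀ (n : ℕ) (x : V), (b ^ n) (Subgroup.inclusion le_sup_left x) =
      Subgroup.inclusion le_sup_left ((a ^ n) x) := by
    intro n
    induction n with
    | zero => simp
    | succ n ih => intro x; rw [pow_succ', pow_succ', MulAut.mul_apply, MulAut.mul_apply, ih, hbV]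
  have hpC : ∀ (n : ℕ) (x : X), ((x : Ω) ∈ CS → (((b ^ n) x : X) : Ω) ∈ CS) ∧
      ((x : Ω) ∈ CT → (x : Ω)⁻¹ * (((b ^ n) x : X) : Ω) ∈ Z) := by
    intro n
    induction n with
    | zero => intro x; exact ⟨fun h => by simpa using h, fun _ => by simp⟩
    | succ n ih =>
      intro x
      rw [pow_succ', MulAut.mul_apply]
      refine ⟨fun h => hbC _ ((ih x).1 h), fun h => ?_⟩
      set z : X := x⁻¹ * (b ^ n) x with hz
      have hzZ : (z : Ω) ∈ Z := (ih x).2 h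
      rw [show (b ^ n) x = x * z by rw [hz, mul_inv_cancel_left], map_mul]
      have := Z.mul_mem (hbCT x h) (hbZ z hzZ)
      simpa [mul_assoc] using this
  set ε := b ^ (p ^ k * i) with hε
  have hεG : ε ∈ G.autGroup X := pow_mem hb _
  have hεo : (orderOf ε).Coprime p := by
    refine hm.coprime_dvd_left (orderOf_dvd_of_pow_eq_one ?_)
    rw [hε, pow_mul, ← pow_mul, mul_comm i m, pow_mul, hkm, one_pow]
  refine ⟨ε, (mem_autGroup_iff F hXS).mpr (hGF X ((mem_autGroup_iff G hXS).mp hεG)),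
    fun x => ?_, fun x hx => ?_⟩
  · rw [hε, hpV, pow_mul, hi]
    rfl
  set d : X := x⁻¹ * ε x with hd
  show (d : Ω) ∈ Z
  have hdT : (d : Ω) ∈ T := hhyp (CfsgLib.FusionExamples.hyperfocal_gen_mem (p := p) hXS
    (α := ⟨ε, hεG⟩) (Subgroup.subset_closure (by
      show (orderOf (⟨ε, hεG⟩ : G.autGroup X)).Coprime p
      rwa [← Subgroup.orderOf_coe])) x)
  have hεx : ((ε x : X) : Ω) ∈ CS := (hpC _ x).1 hx
  have hdCS : (d : Ω) ∈ CS := CS.mul_mem (CS.inv_mem hx) hεx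
  set z : X := d⁻¹ * ε d with hz
  have hzZ : (z : Ω) ∈ Z := (hpC _ d).2 ⟨hdT, hdCS.2⟩
  have hdcomm : ∀ w : X, (w : Ω) ∈ Z → d * w = w * d := fun w hw =>
    Subtype.ext (hdCS.2 (w : Ω) hw.1).symm
  have hεd : ε d = d * z := by rw [hz, mul_inv_cancel_left]
  have hpow : ∀ n : ℕ, ∃ w : X, (w : Ω) ∈ Z ∧ (ε ^ n) x = x * (d ^ n * w) := by
    intro n
    induction n with
    | zero => exact ⟨1, Z.one_mem, by simp⟩
    | succ n ih =>
      obtain ⟨w, hw, hwx⟩ := ih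
      have hεw : ((ε w : X) : Ω) ∈ Z := by
        have h := hpV (p ^ k * i) ⟨w, hw.1⟩
        refine ⟨?_, ((hpC _ w).1 ⟨hVS hw.1, hw.2⟩).2⟩
        rw [hε, show w = Subgroup.inclusion le_sup_left (⟨w, hw.1⟩ : V) from rfl, h]
        exact SetLike.coe_mem _
      refine ⟨z ^ n * ε w, Z.mul_mem (Z.pow_mem hzZ n) hεw, ?_⟩
      rw [pow_succ', MulAut.mul_apply, hwx, map_mul, map_mul, map_pow, hεd,
        (Commute.mul_pow (hdcomm z hzZ : Commute d z)), show ε x = x * d by rw [hd, mul_inv_cancel_left],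
        pow_succ' d]
      simp only [mul_assoc]
  obtain ⟨w, hw, hwx⟩ := hpow (orderOf ε)
  rw [pow_orderOf_eq_one, MulAut.one_apply, left_eq_mul] at hwx
  have hdk : ((d ^ orderOf ε : X) : Ω) ∈ Z := by
    rw [eq_inv_of_mul_eq_one_left hwx]
    exact Z.inv_mem hw
  obtain ⟨e, he⟩ := isPGroup_of_le hS hXS d
  obtain ⟨j, hj⟩ := exists_pow_eq_self_of_coprime (x := d) (n := orderOf ε)
    (Nat.Coprime.coprime_dvd_right (orderOf_dvd_of_pow_eq_one he) (hεo.pow_right e))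
  rw [← hj]
  exact Z.pow_mem hdk j

theorem isNormalIn_of_invUnder [Finite S] (hS : IsPGroup p S) (hD : D.IsNormalIn F p)
    (hL : L.IsNormalIn D p) (hinv : InvUnder L F T) : L.IsNormalIn F p := by
  classical
  have hVi := invariant_of_invUnder hD hL hinv
  refine ⟨⟨hL.1.1, hD.1.2.1, hVi⟩, fun a₀ ha₀ => ?_⟩
  have hVc := hVi.2.1
  have hVT : V ≤ T := hL.1.2.2.2.1.1
  haveI := finite_of_le hVc.1
  have hVp := isPGroup_of_le hS hVc.1
  set X := V ⊔ centralizerIn S V with hXdef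
  have hXS : X ≤ S := sup_le hVc.1 (centralizerIn_le S V)
  set Z := V ⊓ Subgroup.centralizer (V : Set Ω) with hZdef
  let B : Subgroup (MulAut V) := Subgroup.closure {a | ∃ β ∈ F.autGroup X,
    (∀ x : V, ((β (Subgroup.inclusion le_sup_left x) : X) : Ω) = ((a x : V) : Ω)) ∧
    ∀ c : X, (c : Ω) ∈ centralizerIn S V → (c : Ω)⁻¹ * ((β c : X) : Ω) ∈ Z}
  have hB : a₀ ∈ B := by
    refine autGroup_le_of_pPrime hVp hL.1.1 ⟨le_rfl, fun Q _ => ?_⟩ (B := B) (fun a ha => ?_)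
      (fun a ha hac => ?_) ha₀
    · haveI := finite_of_le (normalizerIn_le V V)
      exact Subgroup.card_le_of_le fun g hg =>
        (⟨hg.1, Subgroup.le_normalizer hg.1⟩ : g ∈ normalizerIn V V)
    · obtain ⟨v, hv, hvx⟩ := mem_autInducedBy_iff.mp ha
      have hvN : v ∈ Subgroup.normalizer (X : Set Ω) :=
        Subgroup.le_normalizer (Subgroup.mem_sup_left hv)
      refine Subgroup.subset_closure ⟨conjAut X v hvN,
        autInducedBy_le_autGroup F hXS (conjAut_mem (hVc.1 hv) hvN), fun x => (hvx x).symm,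
        fun c hc => ?_⟩
      show (c : Ω)⁻¹ * (v * (c : Ω) * v⁻¹) ∈ Z
      rw [hc.2 v hv, mul_inv_cancel_right, inv_mul_cancel]
      exact Z.one_mem
    · obtain ⟨β, hβ, hβV, hβC⟩ := hL.2 a ha
      exact Subgroup.subset_closure (exists_ext_of_coprime hS hD hVc hVT hac rfl hβ (fun x _ => hβV x) hβC)
  have hVX : V ≤ X := le_sup_left
  have hcl : ∀ β ∈ F.autGroup X, ∀ c : X, (c : Ω) ∈ centralizerIn S V →
      ((β c : X) : Ω) ∈ centralizerIn S V := by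
    intro β hβ c hc
    refine ⟨hXS (β c).2, fun v hv => ?_⟩
    have hv' : ((β⁻¹ ⟨v, hVX hv⟩ : X) : Ω) ∈ V :=
      stronglyClosed_apply hVc ((mem_autGroup_iff F hXS).mp (inv_mem hβ)) ⟨v, hVX hv⟩ hv
    have h := congrArg (fun z : X => ((β z : X) : Ω))
      (Subtype.ext (hc.2 _ hv') : β⁻¹ ⟨v, hVX hv⟩ * c = c * β⁻¹ ⟨v, hVX hv⟩)
    simpa using h
  have hclZ : ∀ β ∈ F.autGroup X, ∀ c : X, (c : Ω) ∈ Z → ((β c : X) : Ω) ∈ Z := fun β hβ c hc =>
    ⟨stronglyClosed_apply hVc ((mem_autGroup_iff F hXS).mp hβ) c hc.1,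
      (hcl β hβ c ⟨hVc.1 hc.1, hc.2⟩).2⟩
  show ∃ β ∈ F.autGroup X,
    (∀ x : V, ((β (Subgroup.inclusion le_sup_left x) : X) : Ω) = ((a₀ x : V) : Ω)) ∧
    ∀ c : X, (c : Ω) ∈ centralizerIn S V → (c : Ω)⁻¹ * ((β c : X) : Ω) ∈ Z
  clear ha₀
  induction hB using Subgroup.closure_induction with
  | mem a ha => exact ha
  | one => exact ⟨1, Subgroup.one_mem _, fun _ => rfl, fun _ _ => by simp⟩
  | mul a b _ _ iha ihb =>
    obtain ⟨β, hβ, hβV, hβC⟩ := iha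
    obtain ⟨γ, hγ, hγV, hγC⟩ := ihb
    refine ⟨β * γ, mul_mem hβ hγ, fun x => ?_, fun c hc => ?_⟩
    · show ((β (γ (Subgroup.inclusion le_sup_left x)) : X) : Ω) = ((a (b x) : V) : Ω)
      rw [show γ (Subgroup.inclusion le_sup_left x) = Subgroup.inclusion le_sup_left (b x) from
        Subtype.ext (hγV x), hβV]
    · show (c : Ω)⁻¹ * ((β (γ c) : X) : Ω) ∈ Z
      have := Z.mul_mem (hγC c hc) (hβC (γ c) (hcl γ hγ c hc))
      simpa [mul_assoc] using this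
  | inv a _ iha =>
    obtain ⟨β, hβ, hβV, hβC⟩ := iha
    refine ⟨β⁻¹, inv_mem hβ, fun x => ?_, fun c hc => ?_⟩
    · have h : β (Subgroup.inclusion le_sup_left (a⁻¹ x)) = Subgroup.inclusion le_sup_left x :=
        Subtype.ext ((hβV _).trans (congrArg Subtype.val (MulAut.apply_inv_self _ a x)))
      rw [← h, MulAut.inv_apply_self]
      rfl
    · have := Z.inv_mem (hβC _ (hcl _ (inv_mem hβ) c hc))
      simpa using this

end CfsgLib.FusionFitting
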